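import Cfsg.Agent.Lib.Chev.DiagOrder
import Cfsg.Agent.Lib.Chev.Functorial

/-!
Monomial elements as integer matrices acting on the coordinates of the roots.
-/

set_option autoImplicit false

namespace CfsgLib.Chev.GTorus

open Cfsg.Lie Matrix CfsgLib.Chev.Cert

/-- The coordinates of a root. -/
def carV (T : Tab) (r : ℕ) : Fin T.l → ℤ := fun j => T.car j r

/-- The element acts on the coordinates of the roots through the matrix. -/
def Acts (D : ChevalleyDatum) (T : Tab) {F : Type*} [Field F] (g : GL D.Idx F)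
    (M : Matrix (Fin T.l) (Fin T.l) ℤ) : Prop :=
  ∀ r < T.n, ∃ s < T.n, Maps D g r s ∧ carV T s = M *ᵥ carV T r

/-- The matrix of a simple reflection. -/
def reflMat (T : Tab) (i : ℕ) : Matrix (Fin T.l) (Fin T.l) ℤ :=
  fun j k => (1 : Matrix (Fin T.l) (Fin T.l) ℤ) j k - if (k : ℕ) = i then T.car j (T.simple i) else 0

variable {D : ChevalleyDatum} {T : Tab} {C : Tab.Cover} (h : Cert D T C) {F : Type*} [Field F]
include h

theorem carV_refl {i r : ℕ} (hi : i < T.l) (hr : r < T.n) :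
    carV T (T.refl i r) = reflMat T i *ᵥ carV T r := by
  funext j
  show T.car j (T.refl i r) = ∑ k, reflMat T i j k * carV T r k
  rw [(h.refl_spec hi hr).2.2.2.2.2.2.2.1 j j.2]
  simp only [reflMat, sub_mul, Finset.sum_sub_distrib, Matrix.one_apply, carV, ite_mul, one_mul,
    zero_mul, Finset.sum_ite_eq, Finset.mem_univ, if_true]
  congr 1
  rw [Finset.sum_eq_single (⟨i, hi⟩ : Fin T.l)]
  · simp [mul_comm]
  · intro k _ hk
    rw [if_neg (fun e => hk (Fin.ext e))]
  · simp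

theorem exists_acts {g : GL D.Idx F} (hg : g ∈ D.monomialSubgroup F) :
    ∃ M, Acts D T g M := by
  obtain ⟨w, hw, t, ht, rfl⟩ := h.exists_word_of_monomial hg
  refine ⟨(w.map (reflMat T)).prod, fun r hr => ⟨rword T w r, h.rword_lt hw hr,
    Maps_mul (h.Maps_diagonal ht hr) (h.Maps_nW hw hr), ?_⟩⟩
  clear ht hg
  induction w with
  | nil => simp [rword]
  | cons i w ih =>
    rw [rword_cons, carV_refl h hw.head (h.rword_lt hw.tail hr), ih hw.tail, List.map_cons,
      List.prod_cons, Matrix.mulVec_mulVec]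

theorem acts_diagonal {g : GL D.Idx F} (hg : g ∈ D.diagonalSubgroup F) : Acts D T g 1 :=
  fun r hr => ⟨r, hr, h.Maps_diagonal hg hr, (Matrix.one_mulVec _).symm⟩

omit h in
theorem acts_mul {a b : GL D.Idx F} {A B : Matrix (Fin T.l) (Fin T.l) ℤ} (ha : Acts D T a A)
    (hb : Acts D T b B) : Acts D T (a * b) (A * B) := fun r hr => by
  obtain ⟨s, hs, hm, he⟩ := hb r hr
  obtain ⟨u, hu, hm', he'⟩ := ha s hs
  exact ⟨u, hu, Maps_mul hm hm', by rw [he', he, Matrix.mulVec_mulVec]⟩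

theorem acts_pow {g : GL D.Idx F} {A : Matrix (Fin T.l) (Fin T.l) ℤ} (hg : Acts D T g A) :
    ∀ k : ℕ, Acts D T (g ^ k) (A ^ k)
  | 0 => by
    rw [pow_zero, pow_zero]
    exact acts_diagonal h (one_mem _)
  | k + 1 => by
    rw [pow_succ, pow_succ]
    exact acts_mul (acts_pow hg k) hg

variable {Mi : Matrix (Fin T.l) (Fin T.l) ℤ}

theorem acts_unique (hMi : Mi * cartanT T = 1) {g : GL D.Idx F}
    {A B : Matrix (Fin T.l) (Fin T.l) ℤ} (hA : Acts D T g A) (hB : Acts D T g B) : A = B := by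
  have e : A * (cartanT T)ᵀ = B * (cartanT T)ᵀ := by
    ext i j
    obtain ⟨s, hs, hm, he⟩ := hA _ (h.simple_lt j.2)
    obtain ⟨u, hu, hm', he'⟩ := hB _ (h.simple_lt j.2)
    have := congrFun (he.symm.trans ((congrArg (carV T) (h.Maps_unique hs hu hm hm')).trans he')) i
    exact this
  have e2 : (cartanT T)ᵀ * Miᵀ = 1 := by rw [← Matrix.transpose_mul, hMi, Matrix.transpose_one]
  have := congrArg (fun X => X * Miᵀ) e
  simpa only [Matrix.mul_assoc, e2, Matrix.mul_one] using this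

/-- A matrix of a monomial element over a finite field has finite order. -/
theorem acts_finite_order [Finite F] (hMi : Mi * cartanT T = 1) {g : GL D.Idx F}
    {A : Matrix (Fin T.l) (Fin T.l) ℤ} (hg : Acts D T g A) : ∃ N, 0 < N ∧ A ^ N = 1 := by
  refine ⟨orderOf g, orderOf_pos g, ?_⟩
  have h1 := acts_pow h hg (orderOf g)
  rw [pow_orderOf_eq_one] at h1
  exact acts_unique h hMi h1 (acts_diagonal h (one_mem _))

theorem mem_diagonal_of_acts {g : GL D.Idx F} (hg : g ∈ D.monomialSubgroup F)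
    (hA : Acts D T g 1) : g ∈ D.diagonalSubgroup F := by
  refine h.mem_diagonal_of_perm hg fun i hi s hs hM => ?_
  obtain ⟨hp1, hp2, -, -⟩ := h.simple_spec hi
  obtain ⟨u, hu, hm, he⟩ := hA _ hp2
  have hsn : s < T.n := by have := h.two_mul_half; omega
  rw [h.Maps_unique hu hsn hm hM, Matrix.one_mulVec] at he
  have hw : h.wt i s = h.wt i (T.simple i) := by
    rw [h.wt_eq_sum, h.wt_eq_sum]
    refine Finset.sum_congr rfl fun j hj => ?_
    rw [show T.car j s = T.car j (T.simple i) from congrFun he ⟨j, Finset.mem_range.1 hj⟩]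
  have h1 := h.wt_simple hi hi
  rw [if_pos rfl] at h1
  have := h.wt_nonpos hi hsn hs
  omega

theorem acts_map {K : Type*} [Field K] (σ : F →+* K) (hσ : Function.Surjective σ)
    {g : GL D.Idx F} {A : Matrix (Fin T.l) (Fin T.l) ℤ} (hg : Acts D T g A) :
    Acts D T (mapGL D σ g) A := fun r hr => by
  obtain ⟨s, hs, ⟨c, hc, e⟩, he⟩ := hg r hr
  refine ⟨s, hs, ⟨σ c, (map_ne_zero σ).2 hc, fun t => ?_⟩, he⟩
  obtain ⟨t', rfl⟩ := hσ t
  have := congrArg (mapGL D σ) (e t')
  rwa [map_mul, map_mul, map_inv, h.X_map, h.X_map, map_mul] at this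

/-- Diagonal elements on root elements. -/
theorem torusHom_conj_X (c : Fin T.l → Fˣ) {r : ℕ} (hr : r < T.n) (y : F) :
    Cert.torusHom (D := D) (T := T) c * X D r y * (Cert.torusHom (D := D) (T := T) c)⁻¹ =
      X D r (charOf T (Cert.extC T c) r * y) := by
  rw [mul_inv_eq_iff_eq_mul]
  refine Units.ext ?_
  rw [Units.val_mul, Units.val_mul, h.coe_X, h.coe_X]
  exact h.torus_mul_x (h.isChar_charOf fun i _ => Cert.extC_ne_zero c i) hr y

omit h in
theorem charOf_extC (c : Fin T.l → Fˣ) (s : ℕ) :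
    charOf T (Cert.extC T c) s = ((∏ i, c i ^ carV T s i : Fˣ) : F) := by
  rw [charOf, Units.coe_prod, ← Fin.prod_univ_eq_prod_range]
  refine Finset.prod_congr rfl fun i _ => ?_
  simp [Cert.extC, carV, Units.val_zpow_eq_zpow_val]

omit h in
theorem prod_zpow_mulVec {G : Type*} [CommGroup G] {l : ℕ} (M : Matrix (Fin l) (Fin l) ℤ)
    (c : Fin l → G) (v : Fin l → ℤ) :
    ∏ i, c i ^ (M *ᵥ v) i = ∏ i, matHom Mᵀ c i ^ v i := by
  have key : ∀ (s : Finset (Fin l)) (g : G) (f : Fin l → ℤ),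
      g ^ ∑ k ∈ s, f k = ∏ k ∈ s, g ^ f k := fun s g f => by
    induction s using Finset.cons_induction with
    | empty => simp
    | cons a s ha ih => rw [Finset.sum_cons, Finset.prod_cons, _root_.zpow_add, ih]
  simp only [Matrix.mulVec, dotProduct, key, matHom_apply, ← Finset.prod_zpow, ← _root_.zpow_mul,
    Matrix.transpose_apply]
  rw [Finset.prod_comm]

/-- Conjugation of diagonal elements by monomial ones. -/
theorem conj_torusHom {n : GL D.Idx F} (hn : n ∈ D.monomialSubgroup F)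
    {M : Matrix (Fin T.l) (Fin T.l) ℤ} (hM : Acts D T n M) (c : Fin T.l → Fˣ) :
    n * Cert.torusHom (D := D) (T := T) (matHom Mᵀ c) * n⁻¹ =
      Cert.torusHom (D := D) (T := T) c := by
  have hd : n * Cert.torusHom (D := D) (T := T) (matHom Mᵀ c) * n⁻¹ ∈ D.diagonalSubgroup F :=
    (Subgroup.mem_normalizer_iff.1 (h.monomial_le_normalizer_diagonal hn) _).1
      (h.range_torusHom.le ⟨_, rfl⟩)
  obtain ⟨c', hc'⟩ := h.range_torusHom.ge hd
  rw [← hc']
  refine Units.ext ?_
  show torus D (charOf T (Cert.extC T c')) = torus D (charOf T (Cert.extC T c))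
  refine torus_congr D fun s hs => ?_
  rw [h.nroots_eq] at hs
  obtain ⟨π, hπ, hsur⟩ := h.exists_perm hn
  obtain ⟨r, hr, rfl⟩ := hsur s hs
  obtain ⟨u, hu, hm, he⟩ := hM r hr
  rw [← h.Maps_unique hu hs hm (hπ r hr).2.1]
  obtain ⟨a, ha, ea⟩ := hm
  refine mul_right_cancel₀ ha ?_
  have h1 := torusHom_conj_X h c' hu (a * 1)
  rw [hc', ← ea, show n * Cert.torusHom (D := D) (T := T) (matHom Mᵀ c) * n⁻¹ *
      (n * X D r 1 * n⁻¹) * (n * Cert.torusHom (D := D) (T := T) (matHom Mᵀ c) * n⁻¹)⁻¹ =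
      n * (Cert.torusHom (D := D) (T := T) (matHom Mᵀ c) * X D r 1 *
        (Cert.torusHom (D := D) (T := T) (matHom Mᵀ c))⁻¹) * n⁻¹ by group,
    torusHom_conj_X h _ hr, ea] at h1
  have h2 := h.X_inj hu h1
  rw [mul_one, mul_one] at h2
  rw [← h2, mul_comm a, charOf_extC, charOf_extC, he, prod_zpow_mulVec]

/-- What commutes with a diagonal element moving every root subgroup is monomial. -/
theorem mem_monomial_of_commute {c : ℕ → F} (hc : ∀ i < T.l, c i ≠ 0) {k g : GL D.Idx F}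
    (ek : (k : Matrix D.Idx D.Idx F) = torus D (charOf T c))
    (hne : ∀ r < T.n, charOf T c r ≠ 1)
    (hg : g ∈ D.group F) (hcom : k * g = g * k) : g ∈ D.monomialSubgroup F := by
  have hk : k ∈ D.diagonalSubgroup F := h.mem_diagonalSubgroup_iff.2 ⟨c, hc, ek⟩
  have key : ∀ r < T.n, ∀ y : F, k * X D r y * k⁻¹ = X D r (charOf T c r * y) := by
    intro r hr y
    rw [mul_inv_eq_iff_eq_mul]
    refine Units.ext ?_
    rw [Units.val_mul, Units.val_mul, h.coe_X, h.coe_X, ek,
      h.torus_mul_x (h.isChar_charOf hc) hr]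
  have hU : ∀ x ∈ D.posUnipotent F, k * x * k⁻¹ = x → x = 1 := by
    intro x hx hfix
    obtain ⟨p, rfl⟩ := h.mem_posUnipotent_iff.1 hx
    have hconj : k * prodX D (posList T) p * k⁻¹ =
        prodX D (posList T) fun r => charOf T c r * p r := by
      show MulAut.conj k (prodX D (posList T) p) = _
      simp only [prodX, map_list_prod, List.map_map]
      exact congrArg List.prod (List.map_congr_left fun r hr => key r (mem_posList.1 hr).2 (p r))
    have h0 : ∀ r ∈ posList T, p r = 0 := by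
      intro r hr
      have h1 := h.prodX_inj _ sortedLT_posList (fun r hr => mem_posList.1 hr) _ _
        (hconj.symm.trans hfix) r hr
      by_contra hp
      exact hne r (mem_posList.1 hr).2 (mul_right_cancel₀ hp (h1.trans (one_mul _).symm))
    refine List.prod_eq_one fun y hy => ?_
    obtain ⟨r, hr, rfl⟩ := List.mem_map.1 hy
    rw [h0 r hr]; exact h.X_zero (mem_posList.1 hr).2
  obtain ⟨b, hb, n, hn, u, hu, rfl⟩ := h.bruhat_exists hg
  obtain ⟨v, hv, t, ht, rfl⟩ := h.mem_borel_iff.1 hb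
  have hkn : n * k⁻¹ * n⁻¹ ∈ D.diagonalSubgroup F :=
    (Subgroup.mem_normalizer_iff.1 (h.monomial_le_normalizer_diagonal hn) k⁻¹).1 (inv_mem hk)
  have hu' : k * u * k⁻¹ ∈ cellUnipotent D F n := by
    obtain ⟨π, hπ, -⟩ := h.exists_perm hn
    rw [h.cellUnipotent_eq fun r hr => ⟨(hπ r hr).1, (hπ r hr).2.1⟩] at hu ⊢
    exact (Subgroup.mem_normalizer_iff.1 (h.diagonal_le_normalizer_gen
      (fun r (hr : r ∈ posSet T \ {r | T.half ≤ π r}) => hr.1.2) hk) u).1 hu
  have hb' : k * (v * t) * (n * k⁻¹ * n⁻¹) ∈ D.borelSubgroup F :=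
    mul_mem (mul_mem (Subgroup.mem_sup_right hk) hb) (Subgroup.mem_sup_right hkn)
  have e : k * (v * t) * (n * k⁻¹ * n⁻¹) * n * (k * u * k⁻¹) = v * t * n * u := by
    calc _ = k * (v * t * n * u) * k⁻¹ := by group
      _ = _ := by rw [hcom, mul_inv_cancel_right]
  obtain ⟨e1, e2⟩ := (h.bruhat_unique hb' hb hn hn hu' hu e).2 rfl
  have hupos : u ∈ D.posUnipotent F := by
    obtain ⟨π, hπ, -⟩ := h.exists_perm hn
    rw [h.cellUnipotent_eq fun r hr => ⟨(hπ r hr).1, (hπ r hr).2.1⟩] at hu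
    exact h.gen_pos_le (fun r hr => hr.1) hu
  have hu1 : u = 1 := hU u hupos e2
  subst hu1
  rw [mul_one] at hcom ⊢
  have hvk : k * v * k⁻¹ ∈ D.posUnipotent F :=
    (Subgroup.mem_normalizer_iff.1 (h.diagonal_le_normalizer_posUnipotent hk) v).1 hv
  have hv1 : v = 1 := by
    refine hU v hv ?_
    have hx : v⁻¹ * (k * v * k⁻¹) ∈ D.posUnipotent F ⊓ D.diagonalSubgroup F := by
      refine Subgroup.mem_inf.2 ⟨mul_mem (inv_mem hv) hvk, ?_⟩
      have e3 : v⁻¹ * (k * v * k⁻¹) = t * (k * t * (n * k⁻¹ * n⁻¹))⁻¹ := by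
        calc v⁻¹ * (k * v * k⁻¹) =
            v⁻¹ * (k * (v * t) * (n * k⁻¹ * n⁻¹)) * (k * t * (n * k⁻¹ * n⁻¹))⁻¹ := by group
          _ = _ := by rw [e1]; group
      rw [e3]
      exact mul_mem ht (inv_mem (mul_mem (mul_mem hk ht) hkn))
    rw [h.posUnipotent_inf_diagonal, Subgroup.mem_bot, inv_mul_eq_one] at hx
    exact hx.symm
  subst hv1
  rw [one_mul]
  exact mul_mem (diagonal_le_monomial ht) hn

end CfsgLib.Chev.GTorus
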