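import Cfsg.Agent.Lib.Chev.GTorus.Main
import Cfsg.Agent.Lib.Chev.OrderData

/-!
The tori of orders `Φ₈(q)` in F4 and `Φ₃₀(q)` in E8.
-/

set_option autoImplicit false

namespace CfsgLib.Chev.GTorus

open Cfsg.Lie Polynomial

/-- A number exceeding `m` without square divisors from `m` has a prime divisor outside `m`. -/
theorem exists_prime_not_dvd {m N : ℕ} (hm : 0 < m) (hN : m < N)
    (hsq : ∀ p : ℕ, p.Prime → p ∣ m → ¬ p ^ 2 ∣ N) :
    ∃ r : ℕ, r.Prime ∧ ¬ r ∣ m ∧ r ∣ N := by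
  by_contra hcon
  push Not at hcon
  have hN0 : N ≠ 0 := by omega
  have h1 : N ∣ m := by
    rw [← Nat.factorization_le_iff_dvd hN0 hm.ne']
    intro p
    by_cases hp : p.Prime ∧ p ∣ N
    · have hpm : p ∣ m := by
        by_contra h
        exact hcon p hp.1 h hp.2
      have h2 : N.factorization p < 2 :=
        not_le.1 fun h => hsq p hp.1 hpm ((hp.1.pow_dvd_iff_le_factorization hN0).2 h)
      have h3 : 1 ≤ m.factorization p :=
        (hp.1.pow_dvd_iff_le_factorization hm.ne').1 (by rwa [pow_one])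
      omega
    · rw [Nat.factorization_eq_zero_iff N p |>.2 (by tauto)]
      exact Nat.zero_le _
  have := Nat.le_of_dvd hm h1
  omega

/-- The index of the diagonal subgroup modulo a prime dividing `Q - 1`. -/
theorem not_dvd_relIndex {G : Type*} [Group G] {A B : Subgroup G} (hAB : A ≤ B) {Q a r : ℕ}
    (hr : r.Prime) (hQ : 1 < Q) (hQ1 : (Q : ZMod r) = 1) {ds : List ℕ}
    (hB : Nat.card B = Q ^ a * (ds.map fun d => Q ^ d - 1).prod)
    (hA : Nat.card A = (Q - 1) ^ ds.length) (hds : ∀ d ∈ ds, ¬ r ∣ d) : ¬ r ∣ A.relIndex B := by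
  have := Fact.mk hr
  have e : A.relIndex B * (Q - 1) ^ ds.length = Q ^ a * (ds.map fun d => Q ^ d - 1).prod := by
    rw [← hB, ← hA, ← Nat.card_congr (Subgroup.subgroupOfEquivOfLe hAB).toEquiv, mul_comm]
    exact Subgroup.card_mul_index _
  have e2 : ((A.relIndex B : ℕ) : ℤ) * ((Q : ℤ) - 1) ^ ds.length =
      ((Q : ℤ) ^ a * (ds.map fun d => ∑ i ∈ Finset.range d, (Q : ℤ) ^ i).prod) *
        ((Q : ℤ) - 1) ^ ds.length := by
    have h1 := congrArg (fun n : ℕ => (n : ℤ)) e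
    push_cast [Nat.cast_sub hQ.le] at h1
    rw [h1, mul_assoc]
    congr 1
    clear h1 e hds hA hB
    induction ds with
    | nil => simp
    | cons d ds ih =>
      simp only [List.map_cons, List.prod_cons, Nat.cast_mul, List.length_cons]
      rw [ih, Nat.cast_sub (Nat.one_le_pow _ _ (by omega)), Nat.cast_pow, Nat.cast_one,
        ← geom_sum_mul (Q : ℤ) d, pow_succ]
      ring
  have hne : ((Q : ℤ) - 1) ^ ds.length ≠ 0 :=
    pow_ne_zero _ (sub_ne_zero.2 (by exact_mod_cast (ne_of_gt hQ)))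
  have e3 := congrArg (fun z : ℤ => (z : ZMod r)) (mul_right_cancel₀ hne e2)
  simp only [Int.cast_natCast, Int.cast_mul, Int.cast_pow, hQ1, one_pow, one_mul] at e3
  intro hd
  rw [(ZMod.natCast_eq_zero_iff _ _).2 hd] at e3
  clear e e2 hA hB hne hd
  induction ds with
  | nil => simp at e3
  | cons d ds ih =>
    simp only [List.map_cons, List.prod_cons, Int.cast_mul, Int.cast_sum, Int.cast_pow,
      Int.cast_natCast, hQ1, one_pow, Finset.sum_const, Finset.card_range, nsmul_one] at e3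
    rcases mul_eq_zero.1 e3.symm with e4 | e4
    · exact hds d List.mem_cons_self ((ZMod.natCast_eq_zero_iff _ _).1 e4)
    · exact ih (fun x hx => hds x (List.mem_cons_of_mem _ hx)) e4.symm

/-- A prime divisor of a cyclotomic value exceeds the index. -/
theorem lt_of_dvd_eval {r m q : ℕ} (hr : r.Prime) (hrm : ¬ r ∣ m) (hm : 0 < m)
    (h : (r : ℤ) ∣ (cyclotomic m ℤ).eval (q : ℤ)) : m < r := by
  have := Fact.mk hr
  have : NeZero (m : ZMod r) := ⟨fun e => hrm ((ZMod.natCast_eq_zero_iff _ _).1 e)⟩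
  have hroot : IsRoot (cyclotomic m (ZMod r)) (q : ZMod r) := by
    rw [← map_cyclotomic_int, IsRoot, ← Int.cast_natCast (R := ZMod r) q,
      ← eq_intCast (Int.castRingHom (ZMod r)) (q : ℤ), Polynomial.eval_map_apply, eq_intCast,
      ZMod.intCast_zmod_eq_zero_iff_dvd]
    exact h
  have hp := isRoot_cyclotomic_iff.1 hroot
  have h1 : m ∣ r - 1 := hp.eq_orderOf ▸ ZMod.orderOf_dvd_card_sub_one (hp.ne_zero hm.ne')
  have := Nat.le_of_dvd (by have := hr.two_le; omega) h1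
  omega

theorem dvd_pow_sub_one {r q m n : ℕ} (hq : 0 < q) (hmn : m ∣ n)
    (h : (r : ℤ) ∣ (cyclotomic m ℤ).eval (q : ℤ)) : r ∣ q ^ n - 1 := by
  rw [← Int.natCast_dvd_natCast, Nat.cast_sub (Nat.one_le_pow _ _ hq), Nat.cast_pow, Nat.cast_one]
  have h2 := (cyclotomic.dvd_X_pow_sub_one m ℤ).trans
    (sub_one_dvd_pow_sub_one ((Polynomial.X : ℤ[X]) ^ m) (n / m))
  rw [← pow_mul, Nat.mul_div_cancel' hmn] at h2
  exact h.trans (by simpa using Polynomial.eval_dvd (x := (q : ℤ)) h2)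

theorem eval_cyclotomic_eight (t : ℤ) : (cyclotomic 8 ℤ).eval t = t ^ 4 + 1 := by
  rw [show (8 : ℕ) = 2 ^ (2 + 1) by norm_num, cyclotomic_prime_pow_eq_geom_sum Nat.prime_two]
  simp [Finset.sum_range_succ]
  ring

theorem eval_cyclotomic_thirty {t : ℤ} (ht : 0 ≤ t) :
    (cyclotomic 30 ℤ).eval t = t ^ 8 + t ^ 7 - t ^ 5 - t ^ 4 - t ^ 3 + t + 1 := by
  have h6 : ∀ u : ℤ, 0 ≤ u → (cyclotomic 6 ℤ).eval u = u ^ 2 - u + 1 := fun u hu => by
    simp [cyclotomic_six]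
  have h := congrArg (Polynomial.eval t)
    (cyclotomic_expand_eq_cyclotomic_mul (p := 5) (by norm_num) (n := 6) (by norm_num) ℤ)
  rw [expand_eval, eval_mul, h6 t ht, h6 (t ^ 5) (by positivity)] at h
  refine mul_right_cancel₀ (show (t ^ 2 - t + 1 : ℤ) ≠ 0 by nlinarith) ?_
  rw [← h]; ring

/-- The Euclidean coordinates for F4. -/
def pF4 : List (List ℤ) := [[2, 3, 4, 2], [0, 1, 2, 2], [0, 1, 2, 0], [0, 1, 0, 0]]
/-- The inverse Cartan matrix for F4. -/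
def iF4 : List (List ℤ) := [[2, 3, 2, 1], [3, 6, 4, 2], [4, 8, 6, 3], [2, 4, 3, 2]]
/-- The Euclidean coordinates for E8. -/
def pE8 : List (List ℤ) := [[4, 5, 7, 10, 8, 6, 4, 2], [0, 1, -1, 0, 0, 0, 0, 0],
  [0, 1, 1, 0, 0, 0, 0, 0], [0, 1, 1, 2, 0, 0, 0, 0], [0, 1, 1, 2, 2, 0, 0, 0],
  [0, 1, 1, 2, 2, 2, 0, 0], [0, 1, 1, 2, 2, 2, 2, 0], [0, 1, 1, 2, 2, 2, 2, 2]]
/-- The lower factor of `pE8`. -/
def lE8 : List (List ℤ) := [[1, 0, 0, 0, 0, 0, 0, 0], [0, 1, 0, 0, 0, 0, 0, 0],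
  [0, 1, 1, 0, 0, 0, 0, 0], [0, 1, 1, 1, 0, 0, 0, 0], [0, 1, 1, 1, 1, 0, 0, 0],
  [0, 1, 1, 1, 1, 1, 0, 0], [0, 1, 1, 1, 1, 1, 1, 0], [0, 1, 1, 1, 1, 1, 1, 1]]
/-- The upper factor of `pE8`. -/
def uE8 : List (List ℤ) := [[4, 5, 7, 10, 8, 6, 4, 2], [0, 1, -1, 0, 0, 0, 0, 0],
  [0, 0, 2, 0, 0, 0, 0, 0], [0, 0, 0, 2, 0, 0, 0, 0], [0, 0, 0, 0, 2, 0, 0, 0],
  [0, 0, 0, 0, 0, 2, 0, 0], [0, 0, 0, 0, 0, 0, 2, 0], [0, 0, 0, 0, 0, 0, 0, 2]]
/-- The inverse Cartan matrix for E8. -/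
def iE8 : List (List ℤ) := [[4, 5, 7, 10, 8, 6, 4, 2], [5, 8, 10, 15, 12, 9, 6, 3],
  [7, 10, 14, 20, 16, 12, 8, 4], [10, 15, 20, 30, 24, 18, 12, 6], [8, 12, 16, 24, 20, 15, 10, 5],
  [6, 9, 12, 18, 15, 12, 8, 4], [4, 6, 8, 12, 10, 8, 6, 3], [2, 3, 4, 6, 5, 4, 3, 2]]

theorem iF4_mul : matOf tabF4.l iF4 * cartanT tabF4 = 1 := by decide +kernel
theorem iE8_mul : matOf tabE8.l iE8 * cartanT tabE8 = 1 := by decide +kernel

theorem bF4 : ∀ s < tabF4.n,
    ∑ i, (Matrix.mulVec (matOf tabF4.l pF4) (carV tabF4 s)) i ^ 2 ≤ ((8 : ℕ) : ℤ) := by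
  decide +kernel
theorem bE8 : ∀ s < tabE8.n,
    ∑ i, (Matrix.mulVec (matOf tabE8.l pE8) (carV tabE8 s)) i ^ 2 ≤ ((8 : ℕ) : ℤ) := by
  decide +kernel

theorem detF4 : (matOf tabF4.l pF4).det = -8 := by
  show (matOf 4 pF4).det = -8
  decide +kernel

theorem detE8 : (matOf tabE8.l pE8).det = 256 := by
  show (matOf 8 pE8).det = 256
  rw [show matOf 8 pE8 = matOf 8 lE8 * matOf 8 uE8 by decide +kernel, Matrix.det_mul,
    Matrix.det_of_isLowerTriangular (matOf 8 lE8) (fun i j (hij : i < j) =>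
      (by decide +kernel : ∀ i j : Fin 8, (i : ℕ) < j → (lE8.getD i []).getD j 0 = 0) i j hij),
    Matrix.det_of_isUpperTriangular (M := matOf 8 uE8) (fun i j (hij : j < i) =>
      (by decide +kernel : ∀ i j : Fin 8, (j : ℕ) < i → (uE8.getD i []).getD j 0 = 0) i j hij)]
  decide +kernel

variable {F : Type*} [Field F] [Fintype F]

theorem exists_torus_F4 :
    ∃ H : Subgroup ↥(chevF4.group F), IsCyclic ↥H ∧ Nat.card ↥H = Fintype.card F ^ 4 + 1 ∧
      Subgroup.centralizer (H : Set ↥(chevF4.group F)) = H := by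
  set q := Fintype.card F
  have hq : 2 ≤ q := Fintype.one_lt_card
  have hev : (cyclotomic 8 ℤ).eval (q : ℤ) = ((q ^ 4 + 1 : ℕ) : ℤ) := by
    rw [eval_cyclotomic_eight]; push_cast; rfl
  have hsq : ∀ p : ℕ, p.Prime → p ∣ 8 → ¬ p ^ 2 ∣ q ^ 4 + 1 := by
    intro p hp hp8 hd
    obtain rfl : p = 2 := by
      have : p ∣ 2 ^ 3 := by simpa using hp8
      exact (Nat.prime_dvd_prime_iff_eq hp Nat.prime_two).1 (hp.dvd_of_dvd_pow this)
    rw [← ZMod.natCast_eq_zero_iff] at hd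
    push_cast at hd
    exact (by decide : ∀ x : ZMod (2 ^ 2), x ^ 4 + 1 ≠ 0) _ hd
  obtain ⟨r, hr, hrm, hrN⟩ := exists_prime_not_dvd (by norm_num)
    (show 8 < q ^ 4 + 1 by have := Nat.pow_le_pow_left hq 4; omega) hsq
  have hrN' : (r : ℤ) ∣ (cyclotomic 8 ℤ).eval (q : ℤ) := by
    rw [hev]; exact Int.natCast_dvd_natCast.2 hrN
  have h8r := lt_of_dvd_eval hr hrm (by norm_num) hrN'
  obtain ⟨H, h1, h2, h3⟩ := exists_torus (T := tabF4) certF4 (F := F) iF4_mul (matOf _ pF4) 8 bF4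
    (m := 8) (by norm_num) (by decide +kernel) (by rw [detF4, show tabF4.l = 4 from rfl]; norm_num)
    hr hrm hrN'
    (by
      rw [card_groupF4]
      refine Dvd.dvd.mul_left (Dvd.dvd.mul_right (Dvd.dvd.mul_left ?_ _) _) _
      exact dvd_pow_sub_one (by omega) dvd_rfl hrN')
    (fun L _ _ hL => not_dvd_relIndex certF4.diagonal_le_group hr Fintype.one_lt_card hL
      (a := 24) (ds := [2, 6, 8, 12])
      (by rw [card_groupF4]; simp [mul_assoc]) (by rw [card_diagonalF4]; rfl)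
      (fun d hd hrd => by
        have hle := Nat.le_of_dvd (by fin_cases hd <;> norm_num) hrd
        fin_cases hd <;> interval_cases r <;> first | omega | (norm_num at hr; done) | (norm_num at hrd; done)))
    (fun p hp hpm => by
      rw [hev, ← Nat.cast_pow, Int.natCast_dvd_natCast]
      exact hsq p hp hpm)
  exact ⟨H, h1, by rw [h2, hev, Int.natAbs_natCast], h3⟩

theorem exists_torus_E8 :
    ∃ H : Subgroup ↥(chevE8.group F), IsCyclic ↥H ∧
      Nat.card ↥H = Fintype.card F ^ 8 + Fintype.card F ^ 7 - Fintype.card F ^ 5 - Fintype.card F ^ 4 -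
        Fintype.card F ^ 3 + Fintype.card F + 1 ∧
      Subgroup.centralizer (H : Set ↥(chevE8.group F)) = H := by
  set q := Fintype.card F
  have hq : 2 ≤ q := Fintype.one_lt_card
  set N := q ^ 8 + q ^ 7 - q ^ 5 - q ^ 4 - q ^ 3 + q + 1
  have h65 : 2 * q ^ 5 ≤ q ^ 6 := by rw [pow_succ q 5, mul_comm 2]; exact Nat.mul_le_mul_left _ hq
  have h54 : 2 * q ^ 4 ≤ q ^ 5 := by rw [pow_succ q 4, mul_comm 2]; exact Nat.mul_le_mul_left _ hq
  have h43 : 2 * q ^ 3 ≤ q ^ 4 := by rw [pow_succ q 3, mul_comm 2]; exact Nat.mul_le_mul_left _ hq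
  have h76 : 2 * q ^ 6 ≤ q ^ 7 := by rw [pow_succ q 6, mul_comm 2]; exact Nat.mul_le_mul_left _ hq
  have h87 : 2 * q ^ 7 ≤ q ^ 8 := by rw [pow_succ q 7, mul_comm 2]; exact Nat.mul_le_mul_left _ hq
  have h256 : 256 ≤ q ^ 8 := by simpa using Nat.pow_le_pow_left hq 8
  have hcast : (N : ℤ) = (q : ℤ) ^ 8 + (q : ℤ) ^ 7 - (q : ℤ) ^ 5 - (q : ℤ) ^ 4 - (q : ℤ) ^ 3 +
      q + 1 := by
    simp only [N]
    rw [Nat.cast_add, Nat.cast_add, Nat.cast_sub (by omega), Nat.cast_sub (by omega),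
      Nat.cast_sub (by omega)]
    push_cast; ring
  have hev : (cyclotomic 30 ℤ).eval (q : ℤ) = (N : ℤ) := by
    rw [eval_cyclotomic_thirty (by positivity), hcast]
  have hsq : ∀ p : ℕ, p.Prime → p ∣ 30 → ¬ p ^ 2 ∣ N := by
    intro p hp hp30 hd
    have h30 : p = 2 ∨ p = 3 ∨ p = 5 := by
      have : p ∈ Nat.primeFactors 30 := Nat.mem_primeFactors.2 ⟨hp, hp30, by norm_num⟩
      rw [show Nat.primeFactors 30 = {2, 3, 5} by decide +kernel] at this
      simpa using this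
    rw [← ZMod.natCast_eq_zero_iff] at hd
    have h1 : ((N : ℤ) : ZMod (p ^ 2)) = 0 := by rw [Int.cast_natCast]; exact hd
    rw [hcast] at h1
    push_cast at h1
    rcases h30 with rfl | rfl | rfl
    · exact (by decide : ∀ x : ZMod (2 ^ 2), x ^ 8 + x ^ 7 - x ^ 5 - x ^ 4 - x ^ 3 + x + 1 ≠ 0) _ h1
    · exact (by decide : ∀ x : ZMod (3 ^ 2), x ^ 8 + x ^ 7 - x ^ 5 - x ^ 4 - x ^ 3 + x + 1 ≠ 0) _ h1
    · exact (by decide : ∀ x : ZMod (5 ^ 2), x ^ 8 + x ^ 7 - x ^ 5 - x ^ 4 - x ^ 3 + x + 1 ≠ 0) _ h1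
  obtain ⟨r, hr, hrm, hrN⟩ := exists_prime_not_dvd (by norm_num)
    (show 30 < N by simp only [N]; omega) hsq
  have hrN' : (r : ℤ) ∣ (cyclotomic 30 ℤ).eval (q : ℤ) := by
    rw [hev]; exact Int.natCast_dvd_natCast.2 hrN
  have h30r := lt_of_dvd_eval hr hrm (by norm_num) hrN'
  obtain ⟨H, h1, h2, h3⟩ := exists_torus (T := tabE8) certE8 (F := F) iE8_mul (matOf _ pE8) 8 bE8
    (m := 30) (by norm_num) (by decide +kernel) (by rw [detE8, show tabE8.l = 8 from rfl]; norm_num)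
    hr hrm hrN'
    (by
      rw [card_groupE8]
      exact Dvd.dvd.mul_left (Dvd.dvd.mul_left (dvd_pow_sub_one (by omega) dvd_rfl hrN') _) _)
    (fun L _ _ hL => not_dvd_relIndex certE8.diagonal_le_group hr Fintype.one_lt_card hL
      (a := 120) (ds := [2, 8, 12, 14, 18, 20, 24, 30])
      (by rw [card_groupE8]; simp [mul_assoc]) (by rw [card_diagonalE8]; rfl)
      (fun d hd hrd => by
        have hle : d ≤ 30 ∧ 0 < d := by fin_cases hd <;> norm_num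
        have := Nat.le_of_dvd hle.2 hrd
        omega))
    (fun p hp hpm => by
      rw [hev, ← Nat.cast_pow, Int.natCast_dvd_natCast]
      exact hsq p hp hpm)
  exact ⟨H, h1, by rw [h2, hev, Int.natAbs_natCast], h3⟩

end CfsgLib.Chev.GTorus
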