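import Cfsg.Agent.Lib.Chev.DiagOrder

/-!
Kernels of integer matrices on powers of a cyclic group.
-/

set_option autoImplicit false

namespace CfsgLib.Chev.GTorus

open Matrix

variable {l : ℕ} {C : Type*} [CommGroup C] [Finite C] [IsCyclic C]

omit [Finite C] [IsCyclic C] in
theorem matHom_pow {g : C} (B : Matrix (Fin l) (Fin l) ℤ) (x : Fin l → ℤ) :
    matHom B (fun j => g ^ x j) = fun i => g ^ (B *ᵥ x) i := by
  funext i
  rw [matHom_apply]
  simp only [Matrix.mulVec, dotProduct]
  induction (Finset.univ : Finset (Fin l)) using Finset.cons_induction with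
  | empty => simp
  | cons a s ha ih => rw [Finset.prod_cons, Finset.sum_cons, ih, _root_.zpow_add, ← _root_.zpow_mul, mul_comm (x a)]

/-- The order of the kernel. -/
theorem card_ker_matHom (B : Matrix (Fin l) (Fin l) ℤ) (hB : B.det ≠ 0)
    (hd : B.det.natAbs ∣ Nat.card C) :
    Nat.card ↥(matHom (G := C) B).ker = B.det.natAbs := by
  classical
  obtain ⟨g, hg⟩ := IsCyclic.exists_ofOrder_eq_natCard (α := C)
  set n := Nat.card C with hn
  obtain ⟨k, hk⟩ := hd
  have hn0 : 0 < n := Nat.card_pos
  have hk0 : (k : ℤ) ≠ 0 := by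
    have : k ≠ 0 := fun h => by rw [h, mul_zero] at hk; omega
    exact_mod_cast this
  have hn' : (n : ℤ) = B.det.sign * B.det * k := by
    rw [Int.sign_mul_self_eq_natAbs]
    exact_mod_cast hk
  have hsu : B.det.sign * B.det.sign = 1 := by
    rcases lt_trichotomy B.det 0 with h | h | h
    · simp [Int.sign_eq_neg_one_of_neg h]
    · exact absurd h hB
    · simp [Int.sign_eq_one_of_pos h]
  have hgen : ∀ c : C, ∃ e : ℤ, g ^ e = c := fun c => by
    have : c ∈ Subgroup.zpowers g := by
      rw [Subgroup.eq_top_of_card_eq (Subgroup.zpowers g) (by rw [Nat.card_zpowers, hg])]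
      exact Subgroup.mem_top c
    exact Subgroup.mem_zpowers_iff.1 this
  have hone : ∀ e : ℤ, g ^ e = 1 ↔ (n : ℤ) ∣ e := fun e => by
    rw [← orderOf_dvd_iff_zpow_eq_one, hg]
  let ψ : (Fin l → ℤ) →+ Additive (Fin l → C) :=
    { toFun := fun y => Additive.ofMul fun j => g ^ ((k : ℤ) * (B.adjugate *ᵥ y) j)
      map_zero' := by simp; rfl
      map_add' := fun y z => by
        rw [← ofMul_mul]
        congr 1
        funext j
        rw [Pi.mul_apply, ← _root_.zpow_add, Matrix.mulVec_add, Pi.add_apply, mul_add] }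
  set N := LinearMap.range (Matrix.mulVecLin B)
  have hker : ψ.ker = N.toAddSubgroup := by
    ext y
    simp only [AddMonoidHom.mem_ker, Submodule.mem_toAddSubgroup, N, LinearMap.mem_range,
      Matrix.mulVecLin_apply]
    constructor
    · intro h
      have h1 : ∀ j, B.det ∣ (B.adjugate *ᵥ y) j := fun j => by
        have h2 : (n : ℤ) ∣ k * (B.adjugate *ᵥ y) j := (hone _).1 (congrFun (congrArg Additive.toMul h) j)
        rw [hn', mul_comm _ (k : ℤ)] at h2
        have h3 := Int.dvd_of_mul_dvd_mul_left hk0 h2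
        exact (dvd_mul_left _ _).trans h3
      choose z hz using h1
      refine ⟨z, smul_right_injective _ hB ?_⟩
      show B.det • (B *ᵥ z) = B.det • y
      rw [← Matrix.mulVec_smul, show B.det • z = B.adjugate *ᵥ y from funext fun j => (hz j).symm,
        Matrix.mulVec_mulVec, Matrix.mul_adjugate, Matrix.smul_mulVec, Matrix.one_mulVec]
    · rintro ⟨z, rfl⟩
      refine congrArg Additive.ofMul (funext fun j => (hone _).2 ?_)
      rw [Matrix.mulVec_mulVec, Matrix.adjugate_mul, Matrix.smul_mulVec, Matrix.one_mulVec,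
        Pi.smul_apply, smul_eq_mul, hn']
      refine ⟨B.det.sign * z j, ?_⟩
      linear_combination (-(B.det * (k : ℤ) * z j)) * hsu
  have hrange : ∀ c : Fin l → C, Additive.ofMul c ∈ ψ.range ↔ c ∈ (matHom B).ker := by
    intro c
    constructor
    · rintro ⟨y, hy⟩
      rw [show c = fun j => g ^ ((k : ℤ) * (B.adjugate *ᵥ y) j) from congrArg Additive.toMul hy.symm,
        MonoidHom.mem_ker, matHom_pow]
      funext i
      refine (hone _).2 ?_
      rw [show (fun j => (k : ℤ) * (B.adjugate *ᵥ y) j) = (k : ℤ) • (B.adjugate *ᵥ y) from rfl,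
        Matrix.mulVec_smul, Matrix.mulVec_mulVec, Matrix.mul_adjugate, Matrix.smul_mulVec,
        Matrix.one_mulVec, Pi.smul_apply, Pi.smul_apply, smul_eq_mul, smul_eq_mul, hn']
      refine ⟨B.det.sign * y i, ?_⟩
      linear_combination (-(B.det * (k : ℤ) * y i)) * hsu
    · intro hc
      choose x hx using fun j => hgen (c j)
      rw [MonoidHom.mem_ker, show c = fun j => g ^ x j from funext fun j => (hx j).symm, matHom_pow] at hc
      have h1 : ∀ i, (n : ℤ) ∣ (B *ᵥ x) i := fun i => (hone _).1 (congrFun hc i)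
      choose u hu using h1
      refine ⟨B.det.sign • u, congrArg Additive.ofMul (funext fun j => ?_)⟩
      rw [← hx j]
      congr 1
      have h2 : B.det * x j = (n : ℤ) * (B.adjugate *ᵥ u) j := by
        have h3 : B.adjugate *ᵥ (B *ᵥ x) = B.adjugate *ᵥ ((n : ℤ) • u) :=
          congrArg _ (funext fun i => by rw [hu i]; rfl)
        rw [Matrix.mulVec_mulVec, Matrix.adjugate_mul, Matrix.smul_mulVec, Matrix.one_mulVec,
          Matrix.mulVec_smul] at h3
        exact congrFun h3 j
      refine mul_left_cancel₀ hB ?_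
      rw [Matrix.mulVec_smul, Pi.smul_apply, smul_eq_mul, h2, hn']
      ring
  calc Nat.card ↥(matHom (G := C) B).ker = Nat.card ψ.range :=
        Nat.card_congr (Equiv.subtypeEquiv Additive.ofMul fun c => (hrange c).symm)
    _ = ψ.ker.index := (AddSubgroup.index_ker ψ).symm
    _ = B.det.natAbs := by
      rw [hker]
      have hinj : Function.Injective (Matrix.mulVecLin B) := by
        intro a b h
        have h1 : B *ᵥ (a - b) = 0 := by
          rw [Matrix.mulVec_sub, sub_eq_zero]; simpa using h
        exact sub_eq_zero.1 (Matrix.eq_zero_of_mulVec_eq_zero hB h1)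
      have h2 := Submodule.natAbs_det_equiv N (LinearEquiv.ofInjective (Matrix.mulVecLin B) hinj)
      rw [show N.subtype ∘ₗ AddMonoidHom.toIntLinearMap
          ((LinearEquiv.ofInjective (Matrix.mulVecLin B) hinj : (Fin l → ℤ) ≃ₗ[ℤ] N) :
            (Fin l → ℤ) →+ N) = Matrix.toLin' B from LinearMap.ext fun x => rfl,
        LinearMap.det_toLin'] at h2
      exact h2.symm

/-- At most `p` kernel elements of exponent `p` if some congruent matrix has determinant with
`p`-part at most `p`. -/
theorem card_torsion_le {p : ℕ} (hp : p.Prime) (B B' : Matrix (Fin l) (Fin l) ℤ)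
    (hc : ∀ i j, (p : ℤ) ∣ B i j - B' i j) (hB' : B'.det ≠ 0) (hp2 : ¬ p ^ 2 ∣ B'.det.natAbs) :
    Nat.card {c : (matHom (G := C) B).ker // c ^ p = 1} ≤ p := by
  classical
  have : Fact p.Prime := ⟨hp⟩
  set d := B'.det.natAbs with hd
  have hd0 : 0 < d := Int.natAbs_pos.2 hB'
  -- a cyclic group of order `p * d`, receiving the elements of exponent `p`
  have : NeZero (p * d) := ⟨Nat.mul_ne_zero hp.ne_zero hd0.ne'⟩
  let A := Multiplicative (ZMod (p * d))
  have hA : Nat.card A = p * d := by
    rw [Nat.card_congr Multiplicative.toAdd, Nat.card_zmod]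
  let S : Subgroup C := (powMonoidHom p : C →* C).ker
  let S' : Subgroup A := (powMonoidHom p : A →* A).ker
  have hS : Nat.card S ∣ p := by
    rw [IsCyclic.card_powMonoidHom_ker]; exact Nat.gcd_dvd_right _ _
  have hS' : Nat.card S' = p := by
    rw [IsCyclic.card_powMonoidHom_ker, hA, Nat.gcd_mul_right_left]
  obtain ⟨ι, hι⟩ : ∃ ι : S →* A, Function.Injective ι := by
    rcases (Nat.dvd_prime hp).1 hS with h | h
    · have := (Nat.card_eq_one_iff_unique.1 h).1
      exact ⟨1, Function.injective_of_subsingleton _⟩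
    · exact ⟨S'.subtype.comp (mulEquivOfCyclicCardEq (h.trans hS'.symm)).toMonoidHom,
        S'.subtype_injective.comp (MulEquiv.injective _)⟩
  let T : Subgroup (matHom (G := A) B').ker := (powMonoidHom p).ker
  let f : {c : (matHom (G := C) B).ker // c ^ p = 1} → T := fun c =>
    ⟨⟨fun j => ι ⟨c.1.1 j, congrFun (congrArg Subtype.val c.2) j⟩, by
      rw [MonoidHom.mem_ker]
      funext i
      rw [matHom_apply, Pi.one_apply]
      simp only [← map_zpow, ← map_prod]
      refine (congrArg ι (Subtype.ext ?_)).trans (map_one ι)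
      simp only [SubmonoidClass.coe_finsetProd, SubgroupClass.coe_zpow]
      refine Eq.trans ?_ (OneMemClass.coe_one S).symm
      refine Eq.trans ?_ ((matHom_apply B c.1.1 i).symm.trans (congrFun (MonoidHom.mem_ker.1 c.1.2) i))
      refine Finset.prod_congr rfl fun j _ => ?_
      obtain ⟨e, he⟩ := hc i j
      rw [show B i j = B' i j + p * e by linear_combination he, _root_.zpow_add, _root_.zpow_mul,
        zpow_natCast, show c.1.1 j ^ p = 1 from congrFun (congrArg Subtype.val c.2) j,
        _root_.one_zpow, mul_one]⟩, by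
      rw [MonoidHom.mem_ker, powMonoidHom_apply]
      refine Subtype.ext (funext fun j => ?_)
      show ι _ ^ p = 1
      rw [← map_pow]
      exact (congrArg ι (Subtype.ext (congrFun (congrArg Subtype.val c.2) j))).trans (map_one ι)⟩
  have hf : Function.Injective f := fun a b h => by
    refine Subtype.ext (Subtype.ext (funext fun j => ?_))
    exact congrArg Subtype.val (hι (congrFun (congrArg (fun z : T => z.1.1) h) j))
  refine le_trans (Nat.card_le_card_of_injective f hf) ?_
  have hTd : Nat.card T ∣ d :=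
    (Subgroup.card_subgroup_dvd_card T).trans
      (card_ker_matHom B' hB' (by rw [hA]; exact dvd_mul_left _ _)).dvd
  have hpg : IsPGroup p T := fun x => ⟨1, by rw [pow_one]; exact Subtype.ext x.2⟩
  obtain ⟨e, he⟩ := IsPGroup.iff_card.1 hpg
  rw [he] at hTd ⊢
  have he1 : e ≤ 1 := by
    by_contra h
    exact hp2 ((pow_dvd_pow p (by omega)).trans hTd)
  exact (Nat.pow_le_pow_right hp.pos he1).trans (by rw [pow_one])

/-- A finite abelian group with at most `p` elements of exponent `p` for each prime `p` is cyclic. -/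
theorem isCyclic_of_torsion {K : Type*} [CommGroup K] [Finite K]
    (h : ∀ p : ℕ, p.Prime → Nat.card {c : K // c ^ p = 1} ≤ p) : IsCyclic K := by
  classical
  have : Fintype K := Fintype.ofFinite K
  refine isCyclic_of_card_pow_eq_one_le fun n hn => ?_
  induction n using Nat.strong_induction_on with
  | _ n ih =>
    rcases eq_or_ne n 1 with rfl | h1
    · refine Finset.card_le_one.2 fun a ha b hb => ?_
      simp only [Finset.mem_filter, pow_one] at ha hb
      rw [ha.2, hb.2]
    obtain ⟨p, hp, k, rfl⟩ := Nat.exists_prime_and_dvd h1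
    have hk : 0 < k := Nat.pos_of_mul_pos_left hn
    have hlt : k < p * k := by nlinarith [hp.two_le]
    calc (Finset.univ.filter fun a : K => a ^ (p * k) = 1).card
        ≤ p * (Finset.univ.filter fun a : K => a ^ k = 1).card :=
          Finset.card_le_mul_card_image_of_maps_to (f := fun a => a ^ p)
            (fun a ha => Finset.mem_filter.2 ⟨Finset.mem_univ _, by
              rw [← pow_mul]; exact (Finset.mem_filter.1 ha).2⟩) p fun b hb => ?_
      _ ≤ p * k := Nat.mul_le_mul_left p (ih k hlt hk)
    rcases Finset.eq_empty_or_nonempty (Finset.filter (fun a => a ^ p = b)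
        (Finset.univ.filter fun a : K => a ^ (p * k) = 1)) with he | ⟨a₀, ha₀⟩
    · rw [he]; simp
    refine le_trans ?_ (h p hp)
    rw [Nat.card_eq_fintype_card, Fintype.card_subtype]
    refine Finset.card_le_card_of_injOn (fun a => a * a₀⁻¹) (fun a ha => ?_) fun a _ c _ e => mul_right_cancel e
    have e1 := (Finset.mem_filter.1 ha).2
    have e2 := (Finset.mem_filter.1 ha₀).2
    simp [mul_pow, e1, e2]

end CfsgLib.Chev.GTorus
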