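import Mathlib

/-!
Small lemmas on finite fields, roots of unity and fixed cosets.
-/

set_option autoImplicit false

namespace CfsgLib.Chev.GTorus

open Polynomial

/-- An element of prime order is conjugate into a subgroup of index prime to it. -/
theorem exists_conj_mem {G : Type*} [Group G] [Finite G] {r : ℕ} [Fact r.Prime] (H : Subgroup G)
    (hH : ¬ r ∣ H.index) {s : G} (hs : s ^ r = 1) : ∃ g : G, g * s * g⁻¹ ∈ H := by
  have hp : IsPGroup r (Subgroup.zpowers s) := fun ⟨x, hx⟩ => ⟨1, by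
    obtain ⟨i, rfl⟩ := Subgroup.mem_zpowers_iff.1 hx
    rw [pow_one]
    refine Subtype.ext ?_
    show (s ^ i) ^ r = 1
    rw [← zpow_natCast, ← zpow_mul, mul_comm, zpow_mul, zpow_natCast, hs, one_zpow]⟩
  obtain ⟨a, ha⟩ := hp.nonempty_fixed_point_of_prime_not_dvd_card (G ⧸ H) hH
  induction a using QuotientGroup.induction_on with
  | _ g =>
    refine ⟨g⁻¹, ?_⟩
    have h1 := MulAction.mem_fixedPoints.1 ha ⟨s, Subgroup.mem_zpowers s⟩
    have h2 : (((s * g : G)) : G ⧸ H) = (g : G ⧸ H) := h1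
    rw [QuotientGroup.eq] at h2
    rw [inv_inv, show g⁻¹ * s * g = ((s * g)⁻¹ * g)⁻¹ by group]
    exact inv_mem h2

/-- The fixed points of `x ↦ x ^ q`. -/
theorem mem_range_iff_pow {F L : Type*} [Field F] [Fintype F] [Field L] (f : F →+* L) (x : L) :
    x ^ Fintype.card F = x ↔ ∃ y, f y = x := by
  classical
  refine ⟨fun hx => ?_, fun ⟨y, e⟩ => by rw [← e, ← map_pow, FiniteField.pow_card]⟩
  by_contra hne
  set p : L[X] := X ^ Fintype.card F - X
  have hp : p ≠ 0 := FiniteField.X_pow_card_sub_X_ne_zero L Fintype.one_lt_card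
  have hsub : (insert x (Finset.univ.image f)).val ⊆ p.roots := by
    intro y hy
    rw [Polynomial.mem_roots hp]
    rcases Finset.mem_insert.1 hy with e | e
    · simp [p, e, hx]
    · obtain ⟨z, -, rfl⟩ := Finset.mem_image.1 e
      simp [p, ← map_pow, FiniteField.pow_card]
  have h1 := Polynomial.card_le_degree_of_subset_roots hsub
  rw [Finset.card_insert_of_notMem (by
      simpa [Finset.mem_image] using hne),
    Finset.card_image_of_injective _ f.injective, Finset.card_univ,
    show p.natDegree = Fintype.card F from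
      FiniteField.X_pow_card_sub_X_natDegree_eq L Fintype.one_lt_card] at h1
  omega

/-- Translating a value of a cyclotomic polynomial by a prime. -/
theorem not_sq_dvd_eval_add {p m : ℕ} (hp : p.Prime) (hpm : ¬ p ∣ m) (t : ℤ)
    (h : (p : ℤ) ^ 2 ∣ (cyclotomic m ℤ).eval t) :
    ¬ (p : ℤ) ^ 2 ∣ (cyclotomic m ℤ).eval (t + p) := by
  have : Fact p.Prime := ⟨hp⟩
  set f := cyclotomic m ℤ
  obtain ⟨k, hk⟩ := Polynomial.binomExpansion f t (p : ℤ)
  intro h2
  rw [hk] at h2
  have h3 : (p : ℤ) ^ 2 ∣ f.derivative.eval t * p :=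
    (dvd_add_right h).1 ((dvd_add_left (dvd_mul_left ((p : ℤ) ^ 2) k)).1 h2)
  rw [pow_two] at h3
  have h4 : (p : ℤ) ∣ f.derivative.eval t :=
    (mul_dvd_mul_iff_right (by exact_mod_cast hp.ne_zero : (p : ℤ) ≠ 0)).1 h3
  have e1 : (cyclotomic m (ZMod p)).eval (t : ZMod p) = 0 := by
    rw [← map_cyclotomic_int, ← eq_intCast (Int.castRingHom (ZMod p)) t, Polynomial.eval_map_apply,
      eq_intCast, ZMod.intCast_zmod_eq_zero_iff_dvd]
    exact (dvd_pow_self _ two_ne_zero).trans h
  have e2 : (derivative (cyclotomic m (ZMod p))).eval (t : ZMod p) = 0 := by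
    rw [← map_cyclotomic_int, Polynomial.derivative_map, ← eq_intCast (Int.castRingHom (ZMod p)) t,
      Polynomial.eval_map_apply, eq_intCast, ZMod.intCast_zmod_eq_zero_iff_dvd]
    exact h4
  have hne : (m : ZMod p) ≠ 0 := fun e => hpm ((ZMod.natCast_eq_zero_iff _ _).1 e)
  obtain ⟨g, hg⟩ := cyclotomic.dvd_X_pow_sub_one m (ZMod p)
  have e3 : (t : ZMod p) ^ m - 1 = 0 := by
    have := congrArg (Polynomial.eval (t : ZMod p)) hg
    simpa [e1] using this
  have e4 : (m : ZMod p) * (t : ZMod p) ^ (m - 1) = 0 := by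
    have := congrArg (fun f => Polynomial.eval (t : ZMod p) (derivative f)) hg
    simpa [derivative_mul, e1, e2, derivative_X_pow] using this
  rcases mul_eq_zero.1 e4 with e | e
  · exact hne e
  · have ht : (t : ZMod p) = 0 := pow_eq_zero_iff'.1 e |>.1
    have hm0 : m ≠ 0 := fun e' => hpm (e' ▸ dvd_zero p)
    rw [ht, zero_pow hm0, zero_sub, neg_eq_zero] at e3
    exact one_ne_zero e3

end CfsgLib.Chev.GTorus
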