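import Cfsg.Agent.Lib.Chev.GTorus.Lin
import Cfsg.Agent.Lib.Chev.GTorus.Kernel
import Cfsg.Agent.Lib.Chev.GTorus.Weyl
import Cfsg.Agent.Lib.Chev.GTorus.Small
import Cfsg.Agent.Lib.Chev.DiagFusion
import Cfsg.Agent.Lib.Chev.FieldFixed

/-!
Self-centralizing cyclic tori when the Cartan matrix is unimodular.
-/

set_option autoImplicit false
set_option maxHeartbeats 1000000

namespace CfsgLib.Chev.GTorus

open Cfsg.Lie Matrix Polynomial CfsgLib.Chev.Cert

variable {D : ChevalleyDatum} {T : Tab} {C : Tab.Cover} (h : Cert D T C)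
  {Mi : Matrix (Fin T.l) (Fin T.l) ℤ}
include h

section

variable {L : Type*} [Field L]

theorem torusHom_injective (hMi : Mi * cartanT T = 1) :
    Function.Injective (Cert.torusHom (D := D) (T := T) (F := L)) := by
  refine (injective_iff_map_eq_one _).2 fun c hc => ?_
  rw [← MonoidHom.mem_ker, h.ker_torusHom, MonoidHom.mem_ker] at hc
  rw [← matHom_one c, ← hMi, matHom_mul, hc, map_one]

omit h in
theorem charOf_zpow (ω : Lˣ) (X : Fin T.l → ℤ) (s : ℕ) :
    charOf T (Cert.extC T fun i => ω ^ X i) s = ((ω ^ (X ⬝ᵥ carV T s) : Lˣ) : L) := by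
  rw [charOf_extC]
  congr 1
  simp only [← _root_.zpow_mul, dotProduct]
  induction (Finset.univ : Finset (Fin T.l)) using Finset.cons_induction with
  | empty => simp
  | cons a S ha ih => rw [Finset.prod_cons, Finset.sum_cons, ih, _root_.zpow_add]

omit h in
theorem mapGL_torusHom {K : Type*} [Field K] (f : L →+* K) (c : Fin T.l → Lˣ) :
    mapGL D f (Cert.torusHom (D := D) (T := T) c) =
      Cert.torusHom (D := D) (T := T) fun i => Units.map f.toMonoidHom (c i) := by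
  refine Units.ext ?_
  rw [coe_mapGL]
  show (torus D (charOf T (Cert.extC T c))).map f = torus D _
  rw [torus_map]
  refine torus_congr D fun s _ => Finset.prod_congr rfl fun i hi => ?_
  simp [Cert.extC, Finset.mem_range.1 hi]

/-- The matrix of an element fixing a diagonal element. -/
theorem vecMul_of_conj (hMi : Mi * cartanT T = 1) {r : ℕ} {ω : Lˣ} (hω : orderOf ω = r)
    {n : GL D.Idx L} (hn : n ∈ D.monomialSubgroup L) {M : Matrix (Fin T.l) (Fin T.l) ℤ}
    (hM : Acts D T n M) (X : Fin T.l → ℤ) (a : ℤ)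
    (hc : n * Cert.torusHom (D := D) (T := T) (fun i => ω ^ (a * X i)) * n⁻¹ =
      Cert.torusHom (D := D) (T := T) fun i => ω ^ X i) :
    (fun i => (X i : ZMod r)) ᵥ* M.map (Int.castRingHom (ZMod r)) =
      (a : ZMod r) • fun i => (X i : ZMod r) := by
  rw [← conj_torusHom h hn hM fun i => ω ^ X i] at hc
  have h1 := torusHom_injective h hMi (mul_left_cancel (mul_right_cancel hc))
  rw [matHom_pow] at h1
  funext i
  have h2 : (r : ℤ) ∣ a * X i - (Mᵀ *ᵥ X) i := by
    rw [← hω, orderOf_dvd_iff_zpow_eq_one, _root_.zpow_sub, congrFun h1 i, mul_inv_cancel]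
  rw [← ZMod.intCast_zmod_eq_zero_iff_dvd, Int.cast_sub, sub_eq_zero, Matrix.mulVec_transpose] at h2
  rw [Pi.smul_apply, smul_eq_mul, ← Int.cast_mul, h2]
  simp [Matrix.vecMul, dotProduct]

/-- No root is trivial on the eigenvector. -/
theorem dotProduct_ne_zero {m : ℕ} (hm : 0 < m) (hlm : m.totient = T.l) {n : GL D.Idx L}
    {M : Matrix (Fin T.l) (Fin T.l) ℤ} (hM : Acts D T n M)
    (hmin : minpoly ℚ (rat M) = cyclotomic m ℚ)
    {r : ℕ} [Fact r.Prime] {a : ZMod r} {x : Fin T.l → ZMod r} (hx : x ≠ 0)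
    (hxM : x ᵥ* M.map (Int.castRingHom (ZMod r)) = a • x)
    (P : Matrix (Fin T.l) (Fin T.l) ℤ) (b : ℕ)
    (hP : ∀ s < T.n, ∑ i, (P *ᵥ carV T s) i ^ 2 ≤ (b : ℤ))
    (hb : (b : ℤ) ^ T.l < P.det ^ 2 * (r : ℤ) ^ 2) {s : ℕ} (hs : s < T.n) :
    x ⬝ᵥ (fun i => (carV T s i : ZMod r)) ≠ 0 := by
  intro h0
  have hv : carV T s ≠ 0 := by
    intro e
    obtain ⟨k, -, hne⟩ := h.exists_wt_ne hs
    refine hne ?_
    rw [h.wt_eq_sum]
    refine Finset.sum_eq_zero fun j hj => ?_
    rw [show T.car j s = 0 from congrFun e ⟨j, Finset.mem_range.1 hj⟩, mul_zero]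
  have hD := det_orbit_ne_zero hm hlm hmin hv
  set V : Matrix (Fin T.l) (Fin T.l) ℤ := Matrix.of fun i j : Fin T.l => ((M ^ (j : ℕ)) *ᵥ carV T s) i
  have hxk : ∀ k : ℕ, x ᵥ* (M ^ k).map (Int.castRingHom (ZMod r)) = a ^ k • x := fun k => by
    have := vecMul_aeval _ hxM (Polynomial.X ^ k)
    rw [Matrix.map_pow]
    simpa using this
  have hxV : x ᵥ* V.map (Int.castRingHom (ZMod r)) = 0 := by
    funext j
    show x ⬝ᵥ (fun i => Int.castRingHom (ZMod r) (((M ^ (j : ℕ)) *ᵥ carV T s) i)) = 0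
    rw [show (fun i => Int.castRingHom (ZMod r) (((M ^ (j : ℕ)) *ᵥ carV T s) i)) =
      (M ^ (j : ℕ)).map (Int.castRingHom (ZMod r)) *ᵥ fun i => (carV T s i : ZMod r) from
      funext fun i => RingHom.map_mulVec _ _ _ i]
    rw [Matrix.dotProduct_mulVec, hxk, smul_dotProduct, h0, smul_zero]
  have hdvd : (r : ℤ) ∣ V.det := by
    rw [← ZMod.intCast_zmod_eq_zero_iff_dvd]
    have h1 := RingHom.map_det (Int.castRingHom (ZMod r)) V
    rw [eq_intCast] at h1
    rw [h1]
    exact Matrix.exists_vecMul_eq_zero_iff.1 ⟨x, hx, hxV⟩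
  have hl : 0 < T.l := hlm ▸ Nat.totient_pos.2 hm
  have hbd := det_sq_le (A := P * V) hl (b := b) fun j => by
    obtain ⟨u, hu, -, he⟩ := acts_pow h hM (j : ℕ) s hs
    have : (P * V) = Matrix.of fun i (k : Fin T.l) => (P *ᵥ ((M ^ (k : ℕ)) *ᵥ carV T s)) i := rfl
    simp only [this, Matrix.of_apply, ← he]
    exact hP u hu
  rw [Matrix.det_mul, mul_pow] at hbd
  obtain ⟨e, he⟩ := hdvd
  have he0 : 1 ≤ e ^ 2 := by
    have : e ≠ 0 := fun e0 => hD (by rw [he, e0, mul_zero])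
    have : 0 < e ^ 2 := by positivity
    omega
  rw [he, mul_pow] at hbd
  nlinarith [mul_nonneg (mul_nonneg (sq_nonneg P.det) (sq_nonneg (r : ℤ))) (sub_nonneg.2 he0)]

end

variable {F : Type*} [Field F] [Fintype F]

/-- Self-centralizing cyclic tori with order a value of a cyclotomic polynomial. -/
theorem exists_torus (hMi : Mi * cartanT T = 1) (P : Matrix (Fin T.l) (Fin T.l) ℤ) (b : ℕ)
    (hP : ∀ s < T.n, ∑ i, (P *ᵥ carV T s) i ^ 2 ≤ (b : ℤ))
    {m : ℕ} (hm : 2 < m) (hlm : m.totient = T.l)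
    (hb : (b : ℤ) ^ T.l < P.det ^ 2 * ((m : ℤ) + 1) ^ 2)
    {r : ℕ} (hr : r.Prime) (hrm : ¬ r ∣ m)
    (hrN : (r : ℤ) ∣ (cyclotomic m ℤ).eval (Fintype.card F : ℤ))
    (hrG : r ∣ Nat.card ↥(D.group F))
    (hidx : ∀ (L : Type) [Field L] [Fintype L], (Fintype.card L : ZMod r) = 1 →
      ¬ r ∣ (D.diagonalSubgroup L).relIndex (D.group L))
    (hsq : ∀ p : ℕ, p.Prime → p ∣ m →
      ¬ (p : ℤ) ^ 2 ∣ (cyclotomic m ℤ).eval (Fintype.card F : ℤ)) :
    ∃ H : Subgroup ↥(D.group F), IsCyclic ↥H ∧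
      Nat.card ↥H = ((cyclotomic m ℤ).eval (Fintype.card F : ℤ)).natAbs ∧
      Subgroup.centralizer (H : Set ↥(D.group F)) = H := by
  classical
  set q := Fintype.card F with hq
  set N := (cyclotomic m ℤ).eval (q : ℤ) with hN
  have : Fact r.Prime := ⟨hr⟩
  have hm0 : 0 < m := by omega
  -- the order of `q` modulo `r`
  have hprim : IsPrimitiveRoot (q : ZMod r) m := by
    have : NeZero (m : ZMod r) := ⟨fun e => hrm ((ZMod.natCast_eq_zero_iff _ _).1 e)⟩
    refine isRoot_cyclotomic_iff.1 ?_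
    rw [← map_cyclotomic_int, IsRoot, ← Int.cast_natCast (R := ZMod r) q,
      ← eq_intCast (Int.castRingHom (ZMod r)) (q : ℤ), Polynomial.eval_map_apply, eq_intCast,
      ZMod.intCast_zmod_eq_zero_iff_dvd]
    exact hrN
  have hqo : orderOf (q : ZMod r) = m := hprim.eq_orderOf.symm
  have hq0 : (q : ZMod r) ≠ 0 := hprim.ne_zero hm0.ne'
  have hmr : m + 1 ≤ r := by
    have h1 : orderOf (q : ZMod r) ∣ r - 1 := ZMod.orderOf_dvd_card_sub_one hq0
    rw [hqo] at h1
    have := Nat.le_of_dvd (by have := hr.two_le; omega) h1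
    omega
  have hlr : T.l + 1 < r := by
    have := Nat.totient_lt m (by omega)
    omega
  have hbr : (b : ℤ) ^ T.l < P.det ^ 2 * (r : ℤ) ^ 2 := by
    refine hb.trans_le (mul_le_mul_of_nonneg_left ?_ (sq_nonneg _))
    exact pow_le_pow_left₀ (by positivity) (by exact_mod_cast hmr) 2
  have hrq : ¬ r ∣ q := fun e => hq0 ((ZMod.natCast_eq_zero_iff _ _).2 e)
  -- the extension of degree `m`
  obtain ⟨p, hp⟩ := CharP.exists F
  obtain ⟨e, hpp, hqe⟩ := FiniteField.card F p
  have := Fact.mk hpp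
  have : NeZero m := ⟨hm0.ne'⟩
  let L := FiniteField.Extension F p m
  let : Fintype L := Fintype.ofFinite L
  set Q := Fintype.card L with hQ
  have hQq : Q = q ^ m := by
    rw [hQ, ← Nat.card_eq_fintype_card, FiniteField.natCard_extension, Nat.card_eq_fintype_card]
  have hQ1 : (Q : ZMod r) = 1 := by rw [hQq, Nat.cast_pow, ← hqo, pow_orderOf_eq_one]
  set f : F →+* L := algebraMap F L
  set σ : L →+* L := (FiniteField.frobeniusAlgHom F L).toRingHom
  have hσ : ∀ x, σ x = x ^ q := fun x => rfl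
  have hσsur : Function.Surjective σ := Finite.injective_iff_surjective.1 σ.injective
  have hσfix : ∀ x, σ x = x ↔ ∃ y, f y = x := fun x => mem_range_iff_pow f x
  have hσf : ∀ g : GL D.Idx F, mapGL D σ (mapGL D f g) = mapGL D f g := fun g =>
    (mapGL_eq_self_iff D σ _).2 fun i j => (hσfix _).2 ⟨_, rfl⟩
  -- an element of order `r`
  have : Finite ↥(D.group L) := inferInstance
  obtain ⟨s₀, hs₀⟩ := exists_prime_orderOf_dvd_card' r hrG
  let sL : ↥(D.group L) := ⟨mapGL D f s₀, h.map_mem_group f s₀.2⟩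
  have hsr : sL ^ r = 1 := by
    refine Subtype.ext ?_
    show mapGL D f (s₀ : GL D.Idx F) ^ r = 1
    rw [← map_pow, ← SubgroupClass.coe_pow, ← hs₀, pow_orderOf_eq_one]
    exact map_one _
  obtain ⟨g, hg⟩ := exists_conj_mem ((D.diagonalSubgroup L).subgroupOf (D.group L))
    (hidx L hQ1) hsr
  rw [Subgroup.mem_subgroupOf] at hg
  set gg : GL D.Idx L := (g : GL D.Idx L) with hgg
  set sF : GL D.Idx L := mapGL D f (s₀ : GL D.Idx F) with hsF
  set k := gg * sF * gg⁻¹ with hk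
  have hkd : k ∈ D.diagonalSubgroup L := hg
  obtain ⟨c, hc⟩ := h.range_torusHom.ge hkd
  have hs1 : sF ≠ 1 := by
    intro e1
    have : (s₀ : GL D.Idx F) = 1 := mapGL_injective D f (by rw [map_one]; exact e1)
    rw [show s₀ = 1 from Subtype.ext this, orderOf_one] at hs₀
    exact hr.ne_one hs₀.symm
  have hkr : k ^ r = 1 := by
    rw [hk, conj_pow, show sF ^ r = 1 from congrArg Subtype.val hsr, mul_one, mul_inv_cancel]
  have hcr : c ^ r = 1 := torusHom_injective h hMi (by rw [map_pow, hc, hkr, map_one])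
  -- a root of unity
  have hrQ : r ∣ Nat.card Lˣ := by
    rw [Nat.card_units, Nat.card_eq_fintype_card, ← ZMod.natCast_eq_zero_iff,
      Nat.cast_sub Fintype.card_pos, ← hQ, hQ1, Nat.cast_one, sub_self]
  obtain ⟨ω, hω⟩ := exists_prime_orderOf_dvd_card' r hrQ
  have hω' : IsPrimitiveRoot (ω : L) r := by
    rw [IsPrimitiveRoot.iff_orderOf, orderOf_units, hω]
  have hcX : ∀ i, ∃ X : ℤ, ω ^ X = c i := fun i => by
    obtain ⟨j, -, hj⟩ := hω'.eq_pow_of_pow_eq_one (ξ := (c i : L))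
      (by rw [← Units.val_pow_eq_pow_val, show c i ^ r = 1 from congrFun hcr i, Units.val_one])
    exact ⟨j, Units.ext (by rw [zpow_natCast, Units.val_pow_eq_pow_val, hj])⟩
  choose X hX using hcX
  have hcX : c = fun i => ω ^ X i := funext fun i => (hX i).symm
  set x : Fin T.l → ZMod r := fun i => (X i : ZMod r) with hx
  have hx0 : x ≠ 0 := by
    intro e0
    refine hs1 ?_
    have hc1 : c = 1 := funext fun i => by
      rw [hcX, Pi.one_apply, ← orderOf_dvd_iff_zpow_eq_one, hω, ← ZMod.intCast_zmod_eq_zero_iff_dvd]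
      exact congrFun e0 i
    rw [hc1, map_one] at hc
    exact conj_eq_one_iff.1 hc.symm
  have hkσ : mapGL D σ k = Cert.torusHom (D := D) (T := T) fun i => ω ^ ((q : ℤ) * X i) := by
    rw [← hc, mapGL_torusHom]
    congr 1
    funext i
    refine Units.ext ?_
    rw [hcX, mul_comm, _root_.zpow_mul, zpow_natCast]
    simp [hσ, Units.val_pow_eq_pow_val]
    rw [← zpow_natCast, ← zpow_natCast, ← _root_.zpow_mul, ← _root_.zpow_mul, mul_comm]
  -- monomial elements carrying `σ k` to `k`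
  have haux : ∀ n ∈ D.monomialSubgroup L, n * mapGL D σ k * n⁻¹ = k →
      ∃ M, Acts D T n M ∧ x ᵥ* M.map (Int.castRingHom (ZMod r)) = (q : ZMod r) • x ∧
        minpoly ℚ (rat M) = cyclotomic m ℚ := by
    intro n hn hnk
    obtain ⟨M, hM⟩ := exists_acts h hn
    have hxM : x ᵥ* M.map (Int.castRingHom (ZMod r)) = (q : ZMod r) • x := by
      have h2 := vecMul_of_conj h hMi hω hn hM X (q : ℤ) (by rw [← hkσ, hnk, ← hc, hcX])
      rwa [Int.cast_natCast] at h2
    obtain ⟨N₁, hN₁, hMN⟩ := acts_finite_order h hMi hM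
    exact ⟨M, hM, hxM, minpoly_eq hN₁ hMN hlr hm0 hlm hqo hx0 hxM⟩
  set y := mapGL D σ gg * gg⁻¹ with hy
  have hyg : y ∈ D.group L := mul_mem (h.map_mem_group σ g.2) (inv_mem g.2)
  have hσk : mapGL D σ k = y * k * y⁻¹ := by
    rw [hy, hk, map_mul, map_mul, map_inv, hσf, ← hsF]; group
  have hk' : k ∈ D.diagonalSubgroup L := hkd
  obtain ⟨n₀, hn₀, hn₀k⟩ := h.diag_conj_in_monomial (h.map_mem_diagonal σ hk') hk' (inv_mem hyg)
    (by rw [hσk]; group)
  obtain ⟨M₀, hM₀, hxM₀, hmin₀⟩ := haux n₀ hn₀ hn₀k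
  have hne : ∀ s < T.n, charOf T (Cert.extC T c) s ≠ 1 := by
    intro s hs e1
    refine dotProduct_ne_zero h hm0 hlm hM₀ hmin₀ hx0 hxM₀ P b hP hbr hs ?_
    rw [hcX, charOf_zpow, Units.val_eq_one, ← orderOf_dvd_iff_zpow_eq_one, hω,
      ← ZMod.intCast_zmod_eq_zero_iff_dvd] at e1
    simpa [dotProduct, hx] using e1
  have hmono : ∀ z ∈ D.group L, z * k = k * z → z ∈ D.monomialSubgroup L := fun z hz e1 =>
    mem_monomial_of_commute h (c := Cert.extC T c) (fun i _ => Cert.extC_ne_zero c i)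
      (by rw [← hc]; rfl) hne hz e1.symm
  have hym : y ∈ D.monomialSubgroup L := by
    have h1 : n₀ * y ∈ D.monomialSubgroup L :=
      hmono _ (mul_mem (h.monomial_le_group hn₀) hyg) (by
        calc n₀ * y * k = n₀ * (y * k * y⁻¹) * n₀⁻¹ * (n₀ * y) := by group
          _ = k * (n₀ * y) := by rw [← hσk, hn₀k])
    have h2 := mul_mem (inv_mem hn₀) h1
    rwa [inv_mul_cancel_left] at h2
  obtain ⟨M, hM, hxM, hmin⟩ := haux y⁻¹ (inv_mem hym) (by rw [hσk]; group)
  have hlt : ∀ t : ℤ, (Matrix.scalar (Fin T.l) t - Mᵀ).det = (cyclotomic m ℤ).eval t := fun t => by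
    rw [← det_eval hm0 hlm hmin t, ← Matrix.det_transpose, Matrix.transpose_sub,
      Matrix.transpose_transpose, Matrix.scalar_apply, Matrix.diagonal_transpose]
  set B := Matrix.scalar (Fin T.l) (q : ℤ) - Mᵀ with hB
  have hpos : ∀ t : ℤ, (cyclotomic m ℤ).eval t ≠ 0 := fun t => (cyclotomic_pos hm t).ne'
  have hdiv : B.det.natAbs ∣ Nat.card Lˣ := by
    rw [hlt, Nat.card_units, Nat.card_eq_fintype_card, ← hQ, hQq, ← Int.natCast_dvd_natCast,
      Int.natAbs_dvd, Nat.cast_sub (Nat.one_le_pow _ _ Fintype.card_pos), Nat.cast_pow, Nat.cast_one]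
    have := Polynomial.eval_dvd (x := (q : ℤ)) (cyclotomic.dvd_X_pow_sub_one m ℤ)
    simpa using this
  -- the torus
  let φ : ↥(D.group F) →* GL D.Idx L :=
    (MulAut.conj gg).toMonoidHom.comp ((mapGL D f).comp (D.group F).subtype)
  have hφ : ∀ a, φ a = gg * mapGL D f (a : GL D.Idx F) * gg⁻¹ := fun a => rfl
  have hφinj : Function.Injective φ := fun a a' e1 => by
    rw [hφ, hφ] at e1
    exact Subtype.ext (mapGL_injective D f (mul_left_cancel (mul_right_cancel e1)))
  set H := (D.diagonalSubgroup L).comap φ with hH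
  let τ : (Fin T.l → Lˣ) →* GL D.Idx L := Cert.torusHom (D := D) (T := T)
  have hker : ∀ a : Fin T.l → Lˣ,
      a ∈ (matHom B).ker ↔ y⁻¹ * mapGL D σ (τ a) * y⁻¹⁻¹ = τ a := by
    intro a
    rw [mapGL_torusHom]
    conv_rhs => rw [← conj_torusHom h (inv_mem hym) hM a]
    rw [mul_left_inj, mul_right_inj, (torusHom_injective h hMi).eq_iff]
    have hBa : ∀ i, matHom B a i = a i ^ (q : ℤ) / matHom Mᵀ a i := fun i => by
      simp only [matHom_apply, hB, Matrix.sub_apply, _root_.zpow_sub, ← div_eq_mul_inv,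
        Finset.prod_div_distrib]
      congr 1
      rw [Finset.prod_eq_single i]
      · rw [Matrix.scalar_apply, Matrix.diagonal_apply_eq]
      · intro j _ hj; rw [Matrix.scalar_apply, Matrix.diagonal_apply_ne' _ hj, zpow_zero]
      · simp
    have hσu : ∀ i, Units.map σ.toMonoidHom (a i) = a i ^ (q : ℤ) := fun i => Units.ext (by
      simp [hσ, Units.val_pow_eq_pow_val])
    rw [MonoidHom.mem_ker, funext_iff, funext_iff]
    refine forall_congr' fun i => ?_
    rw [hBa, Pi.one_apply, div_eq_one, hσu]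
  have hmemH : ∀ a : ↥(D.group F), a ∈ H →
      ∃ z ∈ (matHom B).ker, τ z = φ a := by
    intro a ha
    obtain ⟨z, hz⟩ := h.range_torusHom.ge (Subgroup.mem_comap.1 ha)
    refine ⟨z, (hker z).2 ?_, hz⟩
    rw [hz, hφ, map_mul, map_mul, map_inv, hσf, hy]
    group
  have hsurj : ∀ z ∈ (matHom B).ker, ∃ a ∈ H, φ a = τ z := by
    intro z hz
    have hzd : τ z ∈ D.diagonalSubgroup L := h.range_torusHom.le ⟨z, rfl⟩
    have h1 := (hker z).1 hz
    have hw : gg⁻¹ * τ z * gg ∈ D.group L ∧ mapGL D σ (gg⁻¹ * τ z * gg) = gg⁻¹ * τ z * gg := by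
      refine ⟨mul_mem (mul_mem (inv_mem g.2) (h.diagonal_le_group hzd)) g.2, ?_⟩
      conv_rhs => rw [← h1]
      rw [map_mul, map_mul, map_inv, hy]
      group
    obtain ⟨a, ha, ea⟩ := (h.fixed_iff_range hMi hσfix).1 hw
    have hφa : φ ⟨a, ha⟩ = τ z := by rw [hφ, ea]; group
    exact ⟨⟨a, ha⟩, Subgroup.mem_comap.2 (hφa.symm ▸ hzd), hφa⟩
  let ε : ↥(matHom (G := Lˣ) B).ker → ↥H := fun z =>
    ⟨(hsurj z.1 z.2).choose, (hsurj z.1 z.2).choose_spec.1⟩
  have hε : ∀ z, φ (ε z).1 = τ z.1 := fun z => (hsurj z.1 z.2).choose_spec.2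
  let εh : ↥(matHom (G := Lˣ) B).ker →* ↥H :=
    MonoidHom.mk' ε fun z z' => Subtype.ext (hφinj (by
      rw [hε, Subgroup.coe_mul, Subgroup.coe_mul, map_mul φ, map_mul τ, hε, hε]))
  have hbij : Function.Bijective εh := by
    refine ⟨fun z z' e1 => Subtype.ext (torusHom_injective h hMi ?_), fun a => ?_⟩
    · show τ z.1 = τ z'.1
      rw [← hε, ← hε]
      exact congrArg (fun u : ↥H => φ u.1) e1
    · obtain ⟨z, hz, ez⟩ := hmemH a.1 a.2
      exact ⟨⟨z, hz⟩, Subtype.ext (hφinj ((hε ⟨z, hz⟩).trans ez))⟩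
  have hcard : Nat.card ↥H = N.natAbs := by
    rw [← Nat.card_congr (MulEquiv.ofBijective εh hbij).toEquiv,
      card_ker_matHom B (by rw [hlt]; exact hpos _) hdiv, hlt]
  have hcyc : IsCyclic ↥(matHom (G := Lˣ) B).ker := by
    refine isCyclic_of_torsion fun p' hp' => ?_
    by_cases hdd : (p' : ℤ) ^ 2 ∣ N
    · have hpm : ¬ p' ∣ m := fun e1 => hsq p' hp' e1 hdd
      refine card_torsion_le hp' B (Matrix.scalar (Fin T.l) ((q : ℤ) + p') - Mᵀ) (fun i j => ?_)
        (by rw [hlt]; exact hpos _) ?_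
      · rw [hB, Matrix.sub_apply, Matrix.sub_apply, Matrix.scalar_apply, Matrix.scalar_apply,
          Matrix.diagonal_apply, Matrix.diagonal_apply]
        split
        · exact ⟨-1, by ring⟩
        · simp
      · rw [hlt, ← Int.natCast_dvd_natCast, Int.dvd_natAbs, Nat.cast_pow]
        exact not_sq_dvd_eval_add hp' hpm _ hdd
    · refine card_torsion_le hp' B B (fun i j => by simp) (by rw [hlt]; exact hpos _) ?_
      rw [hlt, ← Int.natCast_dvd_natCast, Int.dvd_natAbs, Nat.cast_pow]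
      exact hdd
  refine ⟨H, isCyclic_of_surjective εh hbij.2, hcard, le_antisymm (fun a ha => ?_) fun a ha => ?_⟩
  · -- the centralizer is inside
    have hs₀H : s₀ ∈ H := Subgroup.mem_comap.2 hkd
    have e1 : s₀ * a = a * s₀ := Subgroup.mem_centralizer_iff.1 ha s₀ hs₀H
    set z := φ a with hz
    have hzg : z ∈ D.group L := mul_mem (mul_mem g.2 (h.map_mem_group f a.2)) (inv_mem g.2)
    have hzk : z * k = k * z := by
      show φ a * φ s₀ = φ s₀ * φ a
      rw [← map_mul, ← map_mul, e1]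
    have hzm := hmono z hzg hzk
    obtain ⟨Mz, hMz⟩ := exists_acts h hzm
    have hxz : x ᵥ* Mz.map (Int.castRingHom (ZMod r)) = x := by
      have := vecMul_of_conj h hMi hω hzm hMz X 1 (by
        simp only [one_mul]
        rw [← hcX, hc, hzk, mul_inv_cancel_right])
      simpa using this
    have hσz : y⁻¹ * mapGL D σ z = z * y⁻¹ := by
      rw [hz, hφ, map_mul, map_mul, map_inv, hσf, hy]
      group
    have hcom : Mz * M = M * Mz := by
      have h1 := acts_mul hMz hM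
      rw [← hσz] at h1
      exact acts_unique h hMi h1 (acts_mul hM (acts_map h σ hσsur hMz))
    obtain ⟨j, hj, hjM⟩ := acts_finite_order h hMi hMz
    rw [eq_one_of_fix hlr hm0 hlm hmin hx0 hcom hj hjM hxz] at hMz
    exact Subgroup.mem_comap.2 (mem_diagonal_of_acts h hzm hMz)
  · rw [Subgroup.mem_centralizer_iff]
    intro a' ha'
    refine hφinj ?_
    rw [map_mul, map_mul]
    exact h.diagonal_comm (Subgroup.mem_comap.1 ha') (Subgroup.mem_comap.1 ha)

end CfsgLib.Chev.GTorus
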