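import Mathlib

/-!
Integer matrices of finite order with an eigenvalue of prescribed order modulo a prime.
-/

set_option autoImplicit false

namespace CfsgLib.Chev.GTorus

open Matrix Polynomial

variable {l : ℕ}

/-- The integer matrix over `ℚ`. -/
def rat (M : Matrix (Fin l) (Fin l) ℤ) : Matrix (Fin l) (Fin l) ℚ := M.map (Int.castRingHom ℚ)

theorem rat_injective : Function.Injective (rat (l := l)) :=
  Matrix.map_injective Int.cast_injective

theorem map_aeval {R : Type*} [CommRing R] (φ : ℤ →+* R) (M : Matrix (Fin l) (Fin l) ℤ) (f : ℤ[X]) :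
    (aeval M f).map φ = aeval (M.map φ) (f.map φ) := by
  rw [← RingHom.mapMatrix_apply, ← RingHom.mapMatrix_apply, Polynomial.aeval_def, Polynomial.aeval_def,
    Polynomial.hom_eval₂, Polynomial.eval₂_map]
  congr 1
  exact RingHom.ext_int _ _

theorem rat_aeval (M : Matrix (Fin l) (Fin l) ℤ) (f : ℤ[X]) :
    rat (aeval M f) = aeval (rat M) (f.map (Int.castRingHom ℚ)) :=
  map_aeval _ M f

/-- The row vector as a left eigenvector. -/
theorem vecMul_aeval {R : Type*} [CommRing R] (M : Matrix (Fin l) (Fin l) R) {x : Fin l → R} {a : R}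
    (h : x ᵥ* M = a • x) (f : R[X]) : x ᵥ* aeval M f = f.eval a • x := by
  induction f using Polynomial.induction_on' with
  | add p q hp hq => rw [map_add, Matrix.vecMul_add, hp, hq, eval_add, add_smul]
  | monomial n c =>
    have hn : ∀ n : ℕ, x ᵥ* M ^ n = a ^ n • x := fun n => by
      induction n with
      | zero => simp
      | succ n ih => rw [pow_succ, ← Matrix.vecMul_vecMul, ih, Matrix.smul_vecMul, h, smul_smul, pow_succ]
    rw [aeval_monomial, eval_monomial, ← Algebra.smul_def, Matrix.vecMul_smul, hn, smul_smul]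

/-- A polynomial coprime to the minimal polynomial gives an invertible matrix. -/
theorem isUnit_aeval {A : Matrix (Fin l) (Fin l) ℚ} {f : ℚ[X]}
    (h : IsCoprime f (minpoly ℚ A)) : IsUnit (aeval A f) := by
  obtain ⟨a, b, hab⟩ := h
  have h1 := congrArg (aeval A) hab
  rw [map_add, map_mul, map_mul, minpoly.aeval, mul_zero, add_zero, map_one] at h1
  refine ⟨⟨aeval A f, aeval A a, ?_, h1⟩, rfl⟩
  rw [← map_mul, mul_comm, map_mul, h1]

theorem totient_gt {m r d : ℕ} (hm : 0 < m) (hr : r.Prime) (hrl : l + 1 < r) (hd : 0 < d) (hrd : r ∣ d) :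
    l < d.totient := by
  have := Nat.totient_dvd_of_dvd hrd
  rw [Nat.totient_prime hr] at this
  have := Nat.le_of_dvd (Nat.totient_pos.2 hd) this
  omega

/-- A matrix of finite order with an eigenvalue of exact order `m` modulo `r`. -/
theorem minpoly_eq {M : Matrix (Fin l) (Fin l) ℤ} {N : ℕ} (hN : 0 < N) (hMN : M ^ N = 1)
    {r : ℕ} [Fact r.Prime] (hrl : l + 1 < r) {m : ℕ} (hm : 0 < m) (hlm : m.totient = l)
    {a : ZMod r} (ha : orderOf a = m) {x : Fin l → ZMod r} (hx : x ≠ 0)
    (hxM : x ᵥ* M.map (Int.castRingHom (ZMod r)) = a • x) :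
    minpoly ℚ (rat M) = cyclotomic m ℚ := by
  classical
  set A := rat M with hA
  set μ := minpoly ℚ A with hμ
  have hint : IsIntegral ℚ A := Matrix.isIntegral A
  have hdeg : μ.natDegree ≤ l := by
    have := Polynomial.natDegree_le_of_dvd (Matrix.minpoly_dvd_charpoly A) (Matrix.charpoly_monic A).ne_zero
    rwa [Matrix.charpoly_natDegree_eq_dim, Fintype.card_fin] at this
  by_cases hdvd : cyclotomic m ℚ ∣ μ
  · have hc := cyclotomic.monic m ℚ
    refine (Polynomial.eq_of_monic_of_dvd_of_natDegree_le hc (minpoly.monic hint) hdvd ?_)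
    rw [natDegree_cyclotomic, hlm]; exact hdeg
  exfalso
  -- drop the cyclotomic factors prime to the minimal polynomial
  set S := (Nat.divisors N).filter fun d => cyclotomic d ℚ ∣ μ with hS
  have hzero : aeval M (∏ d ∈ S, cyclotomic d ℤ) = 0 := by
    apply rat_injective
    rw [rat_aeval, Polynomial.map_prod]
    simp only [map_cyclotomic]
    have h0 : aeval A (∏ d ∈ Nat.divisors N, cyclotomic d ℚ) = 0 := by
      rw [prod_cyclotomic_eq_X_pow_sub_one hN, map_sub, map_pow, aeval_X, map_one, hA, rat,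
        ← Matrix.map_pow, hMN, Matrix.map_one _ (map_zero _) (map_one _), sub_self]
    rw [← Finset.prod_filter_mul_prod_filter_not (Nat.divisors N) fun d => cyclotomic d ℚ ∣ μ,
      map_mul] at h0
    have hu : IsUnit (aeval A (∏ d ∈ (Nat.divisors N).filter (fun d => ¬ cyclotomic d ℚ ∣ μ),
        cyclotomic d ℚ)) := by
      refine isUnit_aeval (IsCoprime.prod_left fun d hd => ?_)
      obtain ⟨hdN, hnd⟩ := Finset.mem_filter.1 hd
      exact (cyclotomic.irreducible_rat (Nat.pos_of_mem_divisors hdN)).coprime_iff_not_dvd.2 hnd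
    rw [hu.mul_left_eq_zero] at h0
    rw [h0]
    simp [rat]
  set f : Polynomial (ZMod r) := (∏ d ∈ S, cyclotomic d ℤ).map (Int.castRingHom (ZMod r)) with hf
  have h1 : aeval (M.map (Int.castRingHom (ZMod r))) f = 0 := by
    rw [hf, ← map_aeval, hzero]; simp
  have h3 : f.eval a = 0 := by
    have h2 := vecMul_aeval _ hxM f
    rw [h1, Matrix.vecMul_zero] at h2
    rcases smul_eq_zero.1 h2.symm with h | h
    · exact h
    · exact absurd h hx
  rw [hf, Polynomial.map_prod, eval_prod, Finset.prod_eq_zero_iff] at h3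
  obtain ⟨d, hd, hda⟩ := h3
  rw [map_cyclotomic] at hda
  obtain ⟨hdN, hdμ⟩ := Finset.mem_filter.1 hd
  have hd0 := Nat.pos_of_mem_divisors hdN
  have hμ0 : μ ≠ 0 := (minpoly.monic hint).ne_zero
  have hdl : d.totient ≤ l := by
    rw [← natDegree_cyclotomic d ℚ]
    exact (Polynomial.natDegree_le_of_dvd hdμ hμ0).trans hdeg
  by_cases hrd : r ∣ d
  · exact absurd (totient_gt hm Fact.out hrl hd0 hrd) (not_lt.2 hdl)
  · have : NeZero (d : ZMod r) := ⟨fun h => hrd ((ZMod.natCast_eq_zero_iff _ _).1 h)⟩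
    have h4 : IsPrimitiveRoot a d := isRoot_cyclotomic_iff.1 hda
    rw [show d = m by rw [h4.eq_orderOf, ha] ] at hdμ
    exact hdvd hdμ

variable {M : Matrix (Fin l) (Fin l) ℤ} {m : ℕ}

theorem charpoly_eq (hm : 0 < m) (hlm : m.totient = l) (hmin : minpoly ℚ (rat M) = cyclotomic m ℚ) :
    M.charpoly = cyclotomic m ℤ := by
  apply Polynomial.map_injective (Int.castRingHom ℚ) Int.cast_injective
  rw [map_cyclotomic, ← Matrix.charpoly_map, ← hmin]
  show (rat M).charpoly = _
  refine (Polynomial.eq_of_monic_of_dvd_of_natDegree_le (minpoly.monic (Matrix.isIntegral _))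
    (Matrix.charpoly_monic _) (Matrix.minpoly_dvd_charpoly (rat M)) ?_)
  rw [hmin, natDegree_cyclotomic, hlm, Matrix.charpoly_natDegree_eq_dim, Fintype.card_fin]

theorem det_eval (hm : 0 < m) (hlm : m.totient = l) (hmin : minpoly ℚ (rat M) = cyclotomic m ℚ)
    (t : ℤ) : (Matrix.scalar (Fin l) t - M).det = (cyclotomic m ℤ).eval t := by
  rw [← charpoly_eq hm hlm hmin, Matrix.eval_charpoly]

/-- The translates of a nonzero vector are independent. -/
theorem det_orbit_ne_zero (hm : 0 < m) (hlm : m.totient = l)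
    (hmin : minpoly ℚ (rat M) = cyclotomic m ℚ) {v : Fin l → ℤ} (hv : v ≠ 0) :
    (Matrix.of fun i j : Fin l => ((M ^ (j : ℕ)) *ᵥ v) i).det ≠ 0 := by
  classical
  intro h0
  set V : Matrix (Fin l) (Fin l) ℤ := Matrix.of fun i j : Fin l => ((M ^ (j : ℕ)) *ᵥ v) i
  obtain ⟨c, hc, hVc⟩ := Matrix.exists_mulVec_eq_zero_iff.2 h0
  let f : ℤ[X] := ∑ j : Fin l, monomial (j : ℕ) (c j)
  have hf0 : f ≠ 0 := by
    intro h
    apply hc
    funext j
    have := congrArg (fun g => Polynomial.coeff g (j : ℕ)) h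
    simpa [f, coeff_monomial, Fin.val_inj] using this
  have hfd : (f.map (Int.castRingHom ℚ)).natDegree < l := by
    have hl : 0 < l := hlm ▸ Nat.totient_pos.2 hm
    refine lt_of_le_of_lt Polynomial.natDegree_map_le ?_
    refine lt_of_le_of_lt (Polynomial.natDegree_sum_le_of_forall_le (n := l - 1) _ _ fun j _ => ?_)
      (by omega)
    exact (natDegree_monomial_le _).trans (by omega)
  have hfv : aeval M f *ᵥ v = 0 := by
    rw [← hVc]
    funext i
    simp only [f, map_sum, aeval_monomial, Matrix.sum_mulVec, Finset.sum_apply]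
    show _ = ∑ j, V i j * c j
    refine Finset.sum_congr rfl fun j _ => ?_
    rw [← Algebra.smul_def, Matrix.smul_mulVec, Pi.smul_apply, smul_eq_mul, mul_comm]
    rfl
  have hcop : IsCoprime (f.map (Int.castRingHom ℚ)) (minpoly ℚ (rat M)) := by
    rw [hmin]
    refine ((cyclotomic.irreducible_rat hm).coprime_iff_not_dvd.2 fun hd => ?_).symm
    have := Polynomial.natDegree_le_of_dvd hd
      (Polynomial.map_ne_zero_iff Int.cast_injective |>.2 hf0)
    rw [natDegree_cyclotomic, hlm] at this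
    omega
  obtain ⟨w, hw⟩ := isUnit_aeval hcop
  have h1 : (w : Matrix (Fin l) (Fin l) ℚ) *ᵥ (fun i => (v i : ℚ)) = 0 := by
    rw [hw, ← rat_aeval]
    funext i
    have := congrArg (fun u : Fin l → ℤ => ((u i : ℤ) : ℚ)) hfv
    simpa [rat, Matrix.mulVec, dotProduct] using this
  have h2 := congrArg (fun u => (((w⁻¹ : (Matrix (Fin l) (Fin l) ℚ)ˣ) : Matrix (Fin l) (Fin l) ℚ)) *ᵥ u) h1
  simp only [Matrix.mulVec_mulVec, Units.inv_mul, Matrix.one_mulVec, Matrix.mulVec_zero] at h2
  exact hv (funext fun i => by simpa using congrFun h2 i)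

/-- A finite-order matrix commuting with `M` and fixing the eigenvector is the identity. -/
theorem eq_one_of_fix {r : ℕ} [Fact r.Prime] (hrl : l + 1 < r) (hm : 0 < m) (hlm : m.totient = l)
    (hmin : minpoly ℚ (rat M) = cyclotomic m ℚ) {x : Fin l → ZMod r} (hx : x ≠ 0)
    {E : Matrix (Fin l) (Fin l) ℤ} (hcom : E * M = M * E) {j : ℕ} (hj : 0 < j) (hEj : E ^ j = 1)
    (hxE : x ᵥ* E.map (Int.castRingHom (ZMod r)) = x) : E = 1 := by
  classical
  by_contra hne
  have hjo : IsOfFinOrder E := isOfFinOrder_iff_pow_eq_one.2 ⟨j, hj, hEj⟩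
  obtain ⟨ℓ, hℓ, hℓd⟩ := Nat.exists_prime_and_dvd (n := orderOf E)
    (fun h => hne (orderOf_eq_one_iff.1 h))
  set G := E ^ (orderOf E / ℓ) with hG
  have hGo : orderOf G = ℓ := orderOf_pow_orderOf_div hjo.orderOf_pos.ne' hℓd
  have hGcom : G * M = M * G := (Commute.pow_left hcom _).eq
  have hGx : x ᵥ* G.map (Int.castRingHom (ZMod r)) = x := by
    rw [hG, Matrix.map_pow]
    generalize orderOf E / ℓ = k
    induction k with
    | zero => simp
    | succ k ih => rw [pow_succ, ← Matrix.vecMul_vecMul, ih, hxE]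
  have hdet : (G - 1).det ≠ 0 := by
    intro h0
    obtain ⟨v, hv, hEv⟩ := Matrix.exists_mulVec_eq_zero_iff.2 h0
    set V : Matrix (Fin l) (Fin l) ℤ := Matrix.of fun i k : Fin l => ((M ^ (k : ℕ)) *ᵥ v) i
    have hz : (G - 1) * V = 0 := by
      ext i k
      show ((G - 1) *ᵥ ((M ^ (k : ℕ)) *ᵥ v)) i = 0
      rw [Matrix.mulVec_mulVec, ((Commute.sub_left (show Commute G M from hGcom)
        (Commute.one_left M)).pow_right _).eq, ← Matrix.mulVec_mulVec, hEv, Matrix.mulVec_zero]
      rfl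
    have h1 := congrArg (fun W => W * V.adjugate) hz
    simp only [Matrix.mul_assoc, Matrix.mul_adjugate, Matrix.mul_smul, Matrix.mul_one,
      Matrix.zero_mul] at h1
    have h2 : G - 1 = 0 := (smul_eq_zero.1 h1).resolve_left (det_orbit_ne_zero hm hlm hmin hv)
    rw [sub_eq_zero] at h2
    rw [h2, orderOf_one] at hGo
    exact hℓ.ne_one hGo.symm
  have hsum : ∑ k ∈ Finset.range ℓ, G ^ k = 0 := by
    have h1 : (G - 1) * ∑ k ∈ Finset.range ℓ, G ^ k = 0 := by
      rw [mul_geom_sum, ← hGo, pow_orderOf_eq_one, sub_self]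
    have h2 := congrArg (fun W => (G - 1).adjugate * W) h1
    simp only [← Matrix.mul_assoc, Matrix.adjugate_mul, Matrix.smul_mul, Matrix.one_mul,
      Matrix.mul_zero] at h2
    exact (smul_eq_zero.1 h2).resolve_left hdet
  have hℓr : ℓ = r := by
    have h1 : x ᵥ* aeval (G.map (Int.castRingHom (ZMod r)))
        (∑ k ∈ Finset.range ℓ, (X : (ZMod r)[X]) ^ k) = (ℓ : ZMod r) • x := by
      rw [vecMul_aeval _ (a := 1) (by rw [one_smul, hGx])]
      simp [eval_finsetSum]
    rw [map_sum] at h1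
    simp only [map_pow, aeval_X, ← Matrix.map_pow] at h1
    rw [show ∑ k ∈ Finset.range ℓ, (G ^ k).map (Int.castRingHom (ZMod r)) =
        (∑ k ∈ Finset.range ℓ, G ^ k).map (Int.castRingHom (ZMod r)) from
      (map_sum ((Int.castRingHom (ZMod r)).mapMatrix) _ _).symm, hsum] at h1
    rw [Matrix.map_zero _ (map_zero _), Matrix.vecMul_zero] at h1
    rcases smul_eq_zero.1 h1.symm with h | h
    · exact ((Nat.prime_dvd_prime_iff_eq Fact.out hℓ).1 ((ZMod.natCast_eq_zero_iff _ _).1 h)).symm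
    · exact absurd h hx
  subst hℓr
  have hann : aeval (rat G) (cyclotomic ℓ ℚ) = 0 := by
    rw [← map_cyclotomic ℓ (Int.castRingHom ℚ), ← rat_aeval, cyclotomic_prime, map_sum]
    simp [hsum, rat]
  have h1 := Polynomial.natDegree_le_of_dvd (Matrix.minpoly_dvd_charpoly (rat G))
    (Matrix.charpoly_monic _).ne_zero
  rw [Matrix.charpoly_natDegree_eq_dim, Fintype.card_fin] at h1
  have : Nontrivial (Matrix (Fin l) (Fin l) ℚ) := by
    have : Nonempty (Fin l) := ⟨⟨0, hlm ▸ Nat.totient_pos.2 hm⟩⟩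
    infer_instance
  have h2 : minpoly ℚ (rat G) = cyclotomic ℓ ℚ :=
    (minpoly.eq_of_irreducible_of_monic (cyclotomic.irreducible_rat hℓ.pos) hann
      (cyclotomic.monic _ _)).symm
  rw [h2, natDegree_cyclotomic, Nat.totient_prime hℓ] at h1
  omega

/-- Hadamard's bound in the weak form needed here. -/
theorem det_sq_le {A : Matrix (Fin l) (Fin l) ℤ} {b : ℕ} (hl : 0 < l)
    (h : ∀ j, ∑ i, A i j ^ 2 ≤ (b : ℤ)) : A.det ^ 2 ≤ (b : ℤ) ^ l := by
  classical
  set R : Matrix (Fin l) (Fin l) ℝ := A.map (fun z : ℤ => (z : ℝ)) with hR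
  set S := R.conjTranspose * R with hS
  have hp : S.PosSemidef := Matrix.posSemidef_conjTranspose_mul_self R
  have hev : ∀ i, 0 ≤ hp.1.eigenvalues i := fun i => hp.eigenvalues_nonneg i
  have hdet : (A.det : ℝ) ^ 2 = ∏ i, hp.1.eigenvalues i := by
    have h1 := hp.1.det_eq_prod_eigenvalues
    simp only [RCLike.ofReal_real_eq_id, id_eq] at h1
    rw [← h1, hS, Matrix.det_mul, Matrix.det_conjTranspose, star_trivial,
      show R.det = (A.det : ℝ) from (RingHom.map_det (Int.castRingHom ℝ) A).symm, sq]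
  have htr : ∑ i, hp.1.eigenvalues i ≤ (l : ℝ) * b := by
    have h1 := hp.1.trace_eq_sum_eigenvalues
    simp only [RCLike.ofReal_real_eq_id, id_eq] at h1
    rw [← h1, Matrix.trace]
    calc ∑ j, S.diag j ≤ ∑ _j : Fin l, (b : ℝ) := Finset.sum_le_sum fun j _ => by
            show S j j ≤ _
            rw [hS, Matrix.mul_apply]
            simp only [Matrix.conjTranspose_apply, star_trivial, hR, Matrix.map_apply, ← sq]
            exact_mod_cast h j
      _ = _ := by simp
  set T := ∏ i, hp.1.eigenvalues i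
  have hT0 : 0 ≤ T := Finset.prod_nonneg fun i _ => hev i
  have hgm := Real.geom_mean_le_arith_mean Finset.univ (fun _ : Fin l => (1 : ℝ))
    hp.1.eigenvalues (fun _ _ => zero_le_one) (by simpa using hl) (fun i _ => hev i)
  simp only [Real.rpow_one, Finset.sum_const, Finset.card_univ, Fintype.card_fin, nsmul_eq_mul,
    mul_one, one_mul] at hgm
  have hl' : (0 : ℝ) < l := Nat.cast_pos.2 hl
  have h2 : T ^ ((l : ℝ)⁻¹) ≤ b := hgm.trans ((div_le_iff₀ hl').2 (by rw [mul_comm]; exact htr))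
  have h3 : T ≤ (b : ℝ) ^ l := by
    have := pow_le_pow_left₀ (Real.rpow_nonneg hT0 _) h2 l
    rwa [Real.rpow_inv_natCast_pow hT0 (by omega)] at this
  have h4 : ((A.det ^ 2 : ℤ) : ℝ) ≤ (((b : ℤ) ^ l : ℤ) : ℝ) := by rw [Int.cast_pow, Int.cast_pow, Int.cast_natCast, hdet]; exact h3
  exact_mod_cast h4

end CfsgLib.Chev.GTorus
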